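import Groth.Agent.KFlatLib.Scheme.RHomBounded
import Groth.Agent.KFlatLib.Scheme.CohD
import Groth.Agent.PerfGen7.HasRHom

/-!
# `RHom` from an object with coherent cohomology into a bounded complex of injectives
-/

set_option linter.style.haveILetI false
set_option backward.isDefEq.respectTransparency false

universe u

open CategoryTheory CategoryTheory.Limits CategoryTheory.Pretriangulated AlgebraicGeometry

attribute [local instance] HasDerivedCategory.standard

namespace Groth.Agent.RHomO7.BoundedInj

open Groth.Agent.KFlatLib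

variable {X : Scheme.{u}}

/-- High degree cohomology of `iHom` of complexes bounded below and above vanishes. -/
theorem isZero_homology_iHom_high (C J : CochainComplex X.Modules ℤ) (c b : ℤ) [C.IsStrictlyGE c]
    [J.IsStrictlyLE b] (k : ℤ) (hk : b < k + c) : IsZero (((iHom C).obj J).homology k) := by
  let A := (iHom C).obj J
  have hA : IsZero (A.cycles k) := by
    let g : (HomologicalComplex.single X.Modules (ComplexShape.up ℤ) k).obj (A.cycles k) ⟶ A :=
      HomologicalComplex.mkHomFromSingle (A.iCycles k) (fun i _ => A.iCycles_d k i)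
    have hg : g = 0 := by
      refine ((iHomAdj C).homEquiv _ _).symm.injective
        (HomologicalComplex.hom_ext _ _ fun n => ?_)
      by_cases hn : b < n
      · exact (J.isZero_of_isStrictlyLE b n hn).eq_of_tgt _ _
      · refine HomologicalComplex.mapBifunctor.hom_ext (fun p q h => ?_)
        change p + q = n at h
        refine IsZero.eq_of_src ?_ _ _
        by_cases hp : p = k
        · exact Functor.map_isZero _ (C.isZero_of_isStrictlyGE c q (by omega))
        · exact Functor.map_isZero ((DCoh.tensorBi (X := X)).flip.obj (C.X q))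
            (HomologicalComplex.isZero_single_obj_X _ _ _ _ hp)
    have h := congrArg (fun φ : _ ⟶ A => φ.f k) hg
    simp only [g, HomologicalComplex.mkHomFromSingle_f, HomologicalComplex.zero_f] at h
    rw [IsZero.iff_id_eq_zero, ← cancel_mono (A.iCycles k), Category.id_comp, zero_comp,
      ← cancel_epi (HomologicalComplex.singleObjXSelf (ComplexShape.up ℤ) k (A.cycles k)).hom,
      comp_zero]
    exact h
  exact IsZero.of_epi (A.homologyπ k) hA

/-- The cone of the canonical truncation lives in high degrees. -/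
theorem isGE_cone_ιTruncLE (E : CochainComplex X.Modules ℤ) (m : ℤ) :
    (CochainComplex.mappingCone (E.ιTruncLE m)).IsGE (m + 1) := by
  rw [CochainComplex.isGE_iff]
  intro k hk
  rw [HomologicalComplex.exactAt_iff_isZero_homology]
  refine IsZero.of_iso ?_ ((DerivedCategory.homologyFunctorFactors X.Modules k).app _).symm
  let φ := E.ιTruncLE m
  let T := DerivedCategory.Q.mapTriangle.obj (CochainComplex.mappingCone.triangle φ)
  have hT : T ∈ distinguishedTriangles := DerivedCategory.mappingCone_triangle_distinguished φ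
  have hq : ∀ q, q ≤ m → IsIso ((DerivedCategory.homologyFunctor X.Modules q).map T.mor₁) := fun q hq => by
    haveI := CochainComplex.quasiIsoAt_ιTruncLE E m q hq
    exact (NatIso.isIso_map_iff (DerivedCategory.homologyFunctorFactors X.Modules q) φ).2
      (inferInstanceAs (IsIso (HomologicalComplex.homologyMap φ q)))
  haveI := hq k (by omega)
  have h₂ : (DerivedCategory.homologyFunctor X.Modules k).map T.mor₂ = 0 :=
    (DerivedCategory.HomologySequence.epi_homologyMap_mor₁_iff T hT k).1 inferInstance
  have h₃ : DerivedCategory.HomologySequence.δ T k (k + 1) rfl = 0 := by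
    haveI : Mono ((DerivedCategory.homologyFunctor X.Modules (k + 1)).map T.mor₁) := by
      by_cases hk' : k + 1 ≤ m
      · haveI := hq (k + 1) hk'
        infer_instance
      · exact IsZero.mono ((DerivedCategory.Q.obj (E.truncLE m)).isZero_of_isLE m (k + 1) (by omega)) _
    exact (DerivedCategory.HomologySequence.mono_homologyMap_mor₁_iff T hT k (k + 1) rfl).1 inferInstance
  exact (DerivedCategory.HomologySequence.exact₃ T hT k (k + 1) rfl).isZero_X₂ h₂ h₃

/-- One cohomology module of `RHom(E, J)`, for a bounded complex of injectives `J`, only sees a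
truncation of `E`. -/
theorem exists_trunc (E : CochainComplex X.Modules ℤ) [DCoh.HasLTensorCx E] [DCoh.HasRSheafHom E]
    (J : CochainComplex X.Modules ℤ) [∀ n, Injective (J.X n)] (a b : ℤ) [J.IsStrictlyGE a]
    [J.IsStrictlyLE b] (i : ℤ) :
    ∃ T : CochainComplex X.Modules ℤ,
      (∀ k, b - i < k + 1 → IsZero (DCoh.HD (DCoh.toD X T) k)) ∧
      (∀ k, k + 1 ≤ b - i → Nonempty (DCoh.HD (DCoh.toD X T) k ≅ DCoh.HD (DCoh.toD X E) (k + 1))) ∧
      ∀ [DCoh.HasLTensorCx T] [DCoh.HasRSheafHom T],
        Nonempty (DCoh.HD ((DCoh.RSheafHom E).obj (DerivedCategory.Q.obj J)) i ≅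
          DCoh.HD ((DCoh.RSheafHom T).obj (DerivedCategory.Q.obj J)) (i + 1)) := by
  let m := b - i
  let F := E.truncLE m
  let φ : F ⟶ E := E.ιTruncLE m
  let eShift : ∀ k, DCoh.HD (DCoh.toD X (F⟦(1 : ℤ)⟧)) k ≅ DCoh.HD (DCoh.toD X F) (k + 1) := fun k =>
    (DerivedCategory.homologyFunctor X.Modules k).mapIso ((DerivedCategory.Q.commShiftIso (1 : ℤ)).app F) ≪≫
      ((DerivedCategory.homologyFunctor X.Modules 0).shiftIso (1 : ℤ) k (k + 1) (by omega)).app _
  haveI : J.IsKInjective := CochainComplex.isKInjective_of_injective J a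
  refine ⟨F⟦(1 : ℤ)⟧, fun k hk => ?_, fun k hk => ⟨eShift k ≪≫ ?_⟩, ?_⟩
  · exact ((DerivedCategory.Q.obj F).isZero_of_isLE m (k + 1) (by omega)).of_iso (eShift k)
  · haveI := CochainComplex.quasiIsoAt_ιTruncLE E m (k + 1) hk
    exact (DerivedCategory.homologyFunctorFactors X.Modules (k + 1)).app F ≪≫
      asIso (HomologicalComplex.homologyMap φ (k + 1)) ≪≫
      ((DerivedCategory.homologyFunctorFactors X.Modules (k + 1)).app E).symm
  · intro _ _
    obtain ⟨eE⟩ := nonempty_RSheafHom_iso E J
    obtain ⟨eT⟩ := nonempty_RSheafHom_iso (F⟦(1 : ℤ)⟧) J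
    let C := CochainComplex.mappingCone φ
    haveI : C.IsGE (m + 1) := isGE_cone_ιTruncLE E m
    haveI := quasiIso_iHomMap (C.πTruncGE (m + 1)) J
    have hz : ∀ k, i ≤ k → IsZero (((iHom C).obj J).homology k) := fun k hk =>
      (isZero_homology_iHom_high (C.truncGE (m + 1)) J (m + 1) b k (by omega)).of_iso
        (asIso (HomologicalComplex.homologyMap ((iHomMap (C.πTruncGE (m + 1))).app J) k)).symm
    obtain ⟨hw, hse⟩ := Inner.innerHom_shortExact (DCoh.tensorBi (X := X)) (coneSeq φ)
      (fun n => ⟨coneSeqSplitting φ n⟩) J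
    haveI : IsIso (hse.δ i (i + 1) rfl) := hse.isIso_δ i (i + 1) rfl (hz i le_rfl) (hz (i + 1) (by omega))
    exact ⟨(DerivedCategory.homologyFunctor X.Modules i).mapIso eE ≪≫
      (DerivedCategory.homologyFunctorFactors X.Modules i).app _ ≪≫ asIso (hse.δ i (i + 1) rfl) ≪≫
      ((DerivedCategory.homologyFunctorFactors X.Modules (i + 1)).app _).symm ≪≫
      ((DerivedCategory.homologyFunctor X.Modules (i + 1)).mapIso eT).symm⟩

variable [IsLocallyNoetherian X]

/-- Coherent cohomology into quasi-coherent cohomology with a bounded injective model gives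
quasi-coherent cohomology. -/
theorem isQCohD_RSheafHom (E : CochainComplex X.Modules ℤ) [DCoh.HasLTensorCx E] [DCoh.HasRSheafHom E]
    (hE : DCoh.IsCohD (DCoh.toD X E)) (J : CochainComplex X.Modules ℤ) [∀ n, Injective (J.X n)]
    (a b : ℤ) [J.IsStrictlyGE a] [J.IsStrictlyLE b] (hJ : DCoh.IsQCohD (DerivedCategory.Q.obj J)) :
    DCoh.IsQCohD ((DCoh.RSheafHom E).obj (DerivedCategory.Q.obj J)) := fun i => by
  obtain ⟨T, hT₀, hT₁, hT⟩ := exists_trunc E J a b i
  haveI : DCoh.HasLTensorCx T := hasLTensorCx _
  haveI : DCoh.HasRSheafHom T := PerfGen7.hasRSheafHom _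
  obtain ⟨e⟩ := hT
  have hTc : DCoh.IsCohD (DCoh.toD X T) := fun k => by
    by_cases hk : k + 1 ≤ b - i
    · obtain ⟨e'⟩ := hT₁ k hk
      exact isCoh_of_iso e'.symm (hE (k + 1))
    · exact isCoh_of_isZero (hT₀ k (by omega))
  have hpc : ∀ m : ℤ, DCoh.IsPseudoCoherentD m (DCoh.toD X T) := fun m =>
    (isPseudoCoherentD_iff _ _).2
      (locPC_of_coh (isCohD_isQCohD hTc) (fun k _ => hTc k) (b - i) fun k hk => hT₀ k (by omega))
  exact isQCoh_of_iso e.symm
    (isQCohD_RSheafHom_of_pseudoCoherent T hpc _ hJ a (i + 1))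

end Groth.Agent.RHomO7.BoundedInj
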