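import Groth.Agent.RHomO7.TildeTensor
import Groth.Agent.RHomO7.BoundedInj
import Groth.Agent.KFlatLib.TotalMapFlip
import Groth.Agent.KFlatLib.Ring.HasRHom
import Groth.Agent.KFlatLib.Scheme.Tilde
import Groth.Agent.KFlatLib.Scheme.TildeD
import Groth.Agent.KFlatLib.Scheme.TildePull
import Groth.Agent.KFlatLib.Scheme.ProjFormula
import Groth.Agent.PerfGen7.RHomCxBridge
import Groth.Agent.InjQCoh7.Embed
import Groth.Prelude.Def_DRing2

/-!
# Derived `Hom` sheaves on affine noetherian schemes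
-/

set_option linter.style.haveILetI false
set_option backward.isDefEq.respectTransparency false
set_option backward.isDefEq.respectTransparency.types false
set_option maxHeartbeats 400000

universe u

open CategoryTheory CategoryTheory.Limits AlgebraicGeometry

attribute [local instance] HasDerivedCategory.standard

namespace Groth.Agent.RHomO7.AffineDuality

open Groth.Agent.KFlatLib

variable {R : CommRingCat.{u}} [PreservesFiniteLimits (tilde.functor R)]

/-- `M ↦ M^~` on complexes. -/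
noncomputable abbrev tA : DRing.Cx R ⥤ CochainComplex (Spec R).Modules ℤ :=
  (tilde.functor R).mapHomologicalComplex (ComplexShape.up ℤ)

variable (R) in
/-- `M ↦ M^~` on derived categories, with target `D(Spec R)`. -/
noncomputable abbrev tD : DerivedCategory (ModuleCat.{u} R) ⥤ DCoh.D (Spec R) :=
  (tilde.functor R).mapDerivedCategory

omit [PreservesFiniteLimits (tilde.functor R)] in
theorem tensorCx_eq : (DCoh.tensorCx : CochainComplex (Spec R).Modules ℤ ⥤ _ ⥤ _) = (DCoh.tensorBi (X := Spec R)).map₂CochainComplex := rfl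

/-- `totalMapNatIso`, with the functors on complexes given up to equality. -/
noncomputable def totalFlipIso' {A₁ A₂ A : Type (u+1)} [Category.{u} A₁] [Preadditive A₁] [Category.{u} A₂] [Preadditive A₂]
    [Category.{u} A] [Abelian A] [∀ S : Type, HasColimitsOfShape (Discrete S) A]
    {B : Type (u+1)} [Category.{u} B] [Abelian B] [∀ S : Type, HasColimitsOfShape (Discrete S) B]
    {Φ₁ : A₁ ⥤ B} {Φ₂ : A₂ ⥤ B} {Ψ : A ⥤ B} [Φ₁.Additive] [Φ₂.Additive] [Ψ.Additive]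
    {T : A₁ ⥤ A₂ ⥤ A} [T.Additive] [∀ X, (T.obj X).Additive]
    {T' : B ⥤ B ⥤ B} [T'.Additive] [∀ X, (T'.obj X).Additive]
    [∀ J : Type, PreservesColimitsOfShape (Discrete J) Ψ]
    (θ : T ⋙ (Functor.whiskeringRight A₂ A B).obj Ψ ≅
      Φ₁ ⋙ T' ⋙ (Functor.whiskeringLeft A₂ B B).obj Φ₂)
    (Sc : CochainComplex A₁ ℤ ⥤ CochainComplex A₂ ℤ ⥤ CochainComplex A ℤ) (hS : Sc = T.map₂CochainComplex)
    (Tc : CochainComplex B ℤ ⥤ CochainComplex B ℤ ⥤ CochainComplex B ℤ) (hT : Tc = T'.map₂CochainComplex)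
    (K : CochainComplex A₂ ℤ) :
    mapCx Φ₁ ⋙ Tc.flip.obj ((mapCx Φ₂).obj K) ≅ Sc.flip.obj K ⋙ mapCx Ψ :=
  eqToIso (by subst hT; rfl) ≪≫ totalMapNatIso θ K ≪≫ eqToIso (by subst hS; rfl)

/-- `(M ⊗ P)^~ ≅ M^~ ⊗ P^~` on complexes, natural in `M`. -/
noncomputable def tensorTildeCxIso (P : DRing.Cx R) :
    tA ⋙ DCoh.tensorCx.flip.obj (tA.obj P) ≅ tenCx P ⋙ tA :=
  haveI : (tilde.functor R).Additive := tilde_additive R
  totalFlipIso' (TildeTensor.tildeTensorIso (R := R)) _ rfl DCoh.tensorCx tensorCx_eq P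

/-- `(M ⊗^L P)^~ = M^~ ⊗^L E` for a K-flat complex `P` and a K-flat model `E` of `P^~`. -/
theorem nonempty_tildeD_tensor [DTen.HasLTen R] {P : DRing.Cx R}
    (hP : KFlat (MonoidalCategory.curriedTensor (ModuleCat.{u} R)) P)
    (E : CochainComplex (Spec R).Modules ℤ) (hE : DCoh.IsKFlat E) (iE : tA.obj P ≅ E)
    [DCoh.HasLTensorCx E] :
    Nonempty (DTen.tensorRightD R (DerivedCategory.Q.obj P) ⋙ tD R ≅
      tD R ⋙ DCoh.LTensorCx E) := by
  obtain ⟨e⟩ := exists_tenCxIso hP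
  let Q₁ : DRing.Cx R ⥤ Dual.D R := DerivedCategory.Q
  let Q₂ : CochainComplex (Spec R).Modules ℤ ⥤ DCoh.D (Spec R) := DerivedCategory.Q
  let f : tA ⋙ Q₂ ≅ Q₁ ⋙ tD R := (tilde.functor R).mapDerivedCategoryFactors.symm
  let c := (DCoh.tensorCxQ E).totalLeftDerivedCounit DerivedCategory.Q (qisX _)
  haveI : ∀ N, IsIso (c.app N) := fun N => isIso_LTensorCx_counit_of_isKFlat_right E hE N
  haveI := NatIso.isIso_of_isIso_app c
  let τ : tenCx P ⋙ tA ≅ tA ⋙ DCoh.tensorCx.flip.obj E :=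
    (tensorTildeCxIso P).symm ≪≫ Functor.isoWhiskerLeft _ (DCoh.tensorCx.flip.mapIso iE)
  let e₁ : Q₁ ⋙ DTen.tensorRightD R (DerivedCategory.Q.obj P) ⋙ tD R ≅
      (tenCx P ⋙ tA) ⋙ Q₂ :=
    (Functor.associator _ _ _).symm ≪≫ Functor.isoWhiskerRight e (tD R) ≪≫ Functor.associator _ _ _ ≪≫
      Functor.isoWhiskerLeft _ f.symm ≪≫ (Functor.associator _ _ _).symm
  let e₂ : Q₁ ⋙ tD R ⋙ DCoh.LTensorCx E ≅ (tA ⋙ DCoh.tensorCx.flip.obj E) ⋙ Q₂ :=
    (Functor.associator _ _ _).symm ≪≫ Functor.isoWhiskerRight f.symm _ ≪≫ Functor.associator _ _ _ ≪≫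
      Functor.isoWhiskerLeft _ (asIso c) ≪≫ (Functor.associator _ _ _).symm
  let W := HomologicalComplex.quasiIso (ModuleCat.{u} R) (ComplexShape.up ℤ)
  letI : Localization.Lifting Q₁ W (Q₁ ⋙ DTen.tensorRightD R (DerivedCategory.Q.obj P) ⋙ tD R)
      (DTen.tensorRightD R (DerivedCategory.Q.obj P) ⋙ tD R) := ⟨Iso.refl _⟩
  letI : Localization.Lifting Q₁ W (Q₁ ⋙ tD R ⋙ DCoh.LTensorCx E)
      (tD R ⋙ DCoh.LTensorCx E) := ⟨Iso.refl _⟩
  exact ⟨Localization.liftNatIso Q₁ W _ _ _ _ (e₁ ≪≫ Functor.isoWhiskerRight τ Q₂ ≪≫ e₂.symm)⟩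

/-- `(M ⊗^L K)^~ = M^~ ⊗^L E` for any complex `E` representing `K^~`. -/
theorem nonempty_tildeD_tensor_of_iso [DTen.HasLTen R] (K : DRing.Cx R)
    (E : CochainComplex (Spec R).Modules ℤ) [DCoh.HasLTensorCx E]
    (hE : Nonempty (DCoh.toD _ E ≅ (tD R).obj (DRing.toD K))) :
    Nonempty (DTen.tensorRightD R (DRing.toD K) ⋙ tD R ≅
      tD R ⋙ DCoh.LTensorCx E) := by
  obtain ⟨eE⟩ := hE
  let P := (ringCover R).P.obj K
  let β : P ⟶ K := (ringCover R).ψ.app K
  haveI hβ : QuasiIso β := (ringCover R).quasiIso_ψ K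
  haveI : IsIso (DerivedCategory.Q.map β) := (DerivedCategory.isIso_Q_map_iff_quasiIso _ _).2 hβ
  obtain ⟨E', ⟨iE⟩⟩ : ∃ E' : CochainComplex (Spec R).Modules ℤ, Nonempty (tA.obj P ≅ E') :=
    ⟨_, ⟨Iso.refl _⟩⟩
  have hE' : DCoh.IsKFlat E' := kFlat_iff_isKFlat.1 ((kFlat_iff_isKFlat.2
    (isKFlat_tilde (R := R) P (kFlat_ringRes K))).of_iso iE)
  haveI := hasLTensorCx E'
  obtain ⟨e⟩ := nonempty_tildeD_tensor (kFlat_ringRes K) E' hE' iE
  let eP : DerivedCategory.Q.obj E' ≅ DerivedCategory.Q.obj E :=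
    DerivedCategory.Q.mapIso iE.symm ≪≫ ((tilde.functor R).mapDerivedCategoryFactors.app P).symm ≪≫
      (tD R).mapIso (asIso (DerivedCategory.Q.map β)) ≪≫ eE.symm
  obtain ⟨c⟩ := nonempty_LTensorCx_congr_D eP
  exact ⟨Functor.isoWhiskerRight
      ((DTen.LTen R).flip.mapIso (asIso (DerivedCategory.Q.map β)).symm) _ ≪≫ e ≪≫
    Functor.isoWhiskerLeft _ c⟩

/-- If `RHom(E, L^~)` has quasi-coherent cohomology, it is `RHom(K, L)^~`. -/
theorem nonempty_RSheafHom_iso_of_isQCohD [DTen.HasLTen R] [DTen.HasRHom R] (K : DRing.Cx R) (L : Dual.D R)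
    (E : CochainComplex (Spec R).Modules ℤ) [DCoh.HasLTensorCx E] [DCoh.HasRSheafHom E]
    (hE : Nonempty (DCoh.toD _ E ≅ (tD R).obj (DRing.toD K)))
    (hq : DCoh.IsQCohD ((DCoh.RSheafHom E).obj ((tD R).obj L))) :
    Nonempty ((DCoh.RSheafHom E).obj ((tD R).obj L) ≅
      (tD R).obj ((DTen.RHomR R (DRing.toD K)).obj L)) := by
  obtain ⟨θ⟩ := nonempty_tildeD_tensor_of_iso K E hE
  obtain ⟨M, ⟨φ⟩⟩ := exists_tildeD_iso hq
  let G := tD R
  let F := DTen.tensorRightD R (DRing.toD K)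
  let adj := DCoh.RSheafHomAdj E
  let eqv : ∀ Z : Dual.D R, (Z ⟶ M) ≃ (F.obj Z ⟶ L) := fun Z =>
    ((Equiv.ofBijective _ (tildeD_map_bijective Z M)).trans (Iso.homToEquiv φ (Z := G.obj Z))).trans
      (((adj.homEquiv (G.obj Z) (G.obj L)).symm.trans (Iso.homFromEquiv (θ.app Z).symm)).trans
        (Equiv.ofBijective _ (tildeD_map_bijective (F.obj Z) L)).symm)
  have spec : ∀ (Z : Dual.D R) (g : Z ⟶ M), G.map (eqv Z g) =
      θ.hom.app Z ≫ (adj.homEquiv (G.obj Z) (G.obj L)).symm (G.map g ≫ φ.hom) := fun Z g =>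
    Equiv.apply_symm_apply (Equiv.ofBijective _ (tildeD_map_bijective (F.obj Z) L)) _
  let R₁ : (F.op ⋙ yoneda.obj L).RepresentableBy M :=
    { homEquiv := fun {Z} => eqv Z
      homEquiv_comp := fun {Z Z'} f g => by
        refine (tildeD_map_bijective _ _).1 ?_
        change G.map (eqv Z (f ≫ g)) = G.map (F.map f ≫ eqv Z' g)
        rw [Functor.map_comp G (F.map f), spec, spec, Functor.map_comp G f g, Category.assoc,
          Adjunction.homEquiv_naturality_left_symm, ← Category.assoc, ← Category.assoc]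
        exact congrArg (· ≫ _) (θ.hom.naturality f).symm }
  let R₂ : (F.op ⋙ yoneda.obj L).RepresentableBy ((DTen.RHomR R (DRing.toD K)).obj L) :=
    { homEquiv := fun {Z} => ((DTen.rhomAdj R _).homEquiv Z _).symm
      homEquiv_comp := fun {Z Z'} f g => Adjunction.homEquiv_naturality_left_symm _ f g }
  exact ⟨φ.symm ≪≫ G.mapIso (R₁.uniqueUpToIso R₂)⟩

/-- `RHom(E, L^~)` has quasi-coherent cohomology for `L` of finite injective dimension. -/
theorem isQCohD_RSheafHom_tilde [IsNoetherianRing R]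
    (K : DRing.Cx R) (hK : ∀ i : ℤ, Module.Finite R (Dual.HD R (DRing.toD K) i)) (L : Dual.D R)
    (hL : DRing.HasFiniteInjDim R L)
    (E : CochainComplex (Spec R).Modules ℤ) [DCoh.HasLTensorCx E] [DCoh.HasRSheafHom E]
    (hE : Nonempty (DCoh.toD _ E ≅ (tD R).obj (DRing.toD K))) :
    DCoh.IsQCohD ((DCoh.RSheafHom E).obj ((tD R).obj L)) := by
  obtain ⟨eE⟩ := hE
  obtain ⟨a, b, I, hI, hinj, ⟨eI⟩⟩ := hL
  haveI : ∀ n, Injective ((tA.obj I).X n) := fun n =>
    haveI := (Module.injective_iff_injective_object R (I.X n)).1 (hinj n)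
    InjQCoh7.injective_tilde (R := R) (I.X n)
  haveI : (tA.obj I).IsStrictlyGE a := by
    rw [CochainComplex.isStrictlyGE_iff]
    exact fun n hn => Functor.map_isZero (tilde.functor R) (hI n (Or.inl hn))
  haveI : (tA.obj I).IsStrictlyLE b := by
    rw [CochainComplex.isStrictlyLE_iff]
    exact fun n hn => Functor.map_isZero (tilde.functor R) (hI n (Or.inr hn))
  have hq : DCoh.IsQCohD (DerivedCategory.Q.obj (tA.obj I)) :=
    isQCohD_of_iso ((tilde.functor R).mapDerivedCategoryFactors.app I)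
      (isQCohD_tildeD (R := R) (DerivedCategory.Q.obj I))
  have hEc : DCoh.IsCohD (DCoh.toD _ E) := fun i => by
    refine isCoh_of_iso (((mapDCHomologyIso (tilde.functor R) i).app _).symm ≪≫
      ((DerivedCategory.homologyFunctor _ i).mapIso eE).symm) ?_
    exact (isCoh_tilde_iff (R := R) _).2 (hK i)
  exact isQCohD_of_iso ((DCoh.RSheafHom E).mapIso
      (((tilde.functor R).mapDerivedCategoryFactors.app I).symm ≪≫
        (tD R).mapIso eI))
    (BoundedInj.isQCohD_RSheafHom E hEc (tA.obj I) a b hq)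

end Groth.Agent.RHomO7.AffineDuality
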