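import Groth.Agent.RHomO7.Main
import Groth.Prelude.Def_DDual2

/-!
# `RHom(O_Z, -)` represents `Hom(i_* -, -)` on all of `D(Z)`
-/

set_option linter.style.haveILetI false
set_option backward.isDefEq.respectTransparency false
set_option backward.isDefEq.respectTransparency.types false

universe u

open CategoryTheory CategoryTheory.Limits AlgebraicGeometry

attribute [local instance] HasDerivedCategory.standard

namespace Groth.Agent.RHomO7

open Groth.Agent.KFlatLib

/-- Natural transformations descend along a full essentially surjective functor. -/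
theorem exists_natTrans_of_precomp {A B C : Type*} [Category A] [Category B] [Category C] (G : A ⥤ B)
    [G.Full] [G.EssSurj] {F F' : B ⥤ C} (η : G ⋙ F ⟶ G ⋙ F') :
    ∃ β : F ⟶ F', ∀ a, β.app (G.obj a) = η.app a := by
  let p := fun b => G.objObjPreimageIso b
  have key : ∀ (b : B) (a : A) (q : G.obj a ≅ b),
      F.map (p b).inv ≫ η.app _ ≫ F'.map (p b).hom = F.map q.inv ≫ η.app a ≫ F'.map q.hom := fun b a q => by
    obtain ⟨g, hg⟩ := G.map_surjective ((p b).hom ≫ q.inv)
    have h := η.naturality g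
    simp only [Functor.comp_map, hg] at h
    rw [show q.inv = (p b).inv ≫ (p b).hom ≫ q.inv by simp, Functor.map_comp, Category.assoc, reassoc_of% h]
    simp [← Functor.map_comp]
  refine ⟨{ app := fun b => F.map (p b).inv ≫ η.app _ ≫ F'.map (p b).hom, naturality := fun b b' f => ?_ },
    fun a => (key (G.obj a) a (Iso.refl _)).trans (by simp)⟩
  obtain ⟨g, hg⟩ := G.map_surjective ((p b).hom ≫ f ≫ (p b').inv)
  have h := η.naturality g
  simp only [Functor.comp_map, hg] at h
  rw [← Functor.map_comp_assoc, show f ≫ (p b').inv = (p b).inv ≫ ((p b).hom ≫ f ≫ (p b').inv) by simp,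
    Functor.map_comp_assoc, reassoc_of% h]
  simp [← Functor.map_comp]

variable {Z X : Scheme.{u}} (i : Z ⟶ X) [IsClosedImmersion i] [Dual3.HasHomO i]
  [PreservesFiniteLimits (Scheme.Modules.pushforward i)] [PreservesFiniteColimits (Scheme.Modules.pushforward i)]

/-- `i_* ⊣ Hom(O_Z, -)` on complexes. -/
noncomputable abbrev cxAdj :
    (Scheme.Modules.pushforward i).mapHomologicalComplex (ComplexShape.up ℤ) ⊣
      (Dual3.homO i).mapHomologicalComplex (ComplexShape.up ℤ) :=
  mapCxAdj (Dual3.homOAdj i)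

/-- The counit in the derived category. -/
noncomputable def evApp (I : CochainComplex X.Modules ℤ) :
    (Dual3.pushD i).obj (DerivedCategory.Q.obj (((Dual3.homO i).mapHomologicalComplex _).obj I)) ⟶
      DerivedCategory.Q.obj I :=
  (Scheme.Modules.pushforward i).mapDerivedCategoryFactors.hom.app _ ≫
    DerivedCategory.Q.map ((cxAdj i).counit.app I)

theorem pushD_map_evApp {L : CochainComplex Z.Modules ℤ} {I : CochainComplex X.Modules ℤ}
    (f : L ⟶ ((Dual3.homO i).mapHomologicalComplex (ComplexShape.up ℤ)).obj I) :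
    (Dual3.pushD i).map (DerivedCategory.Q.map f) ≫ evApp i I =
      (Scheme.Modules.pushforward i).mapDerivedCategoryFactors.hom.app L ≫
        DerivedCategory.Q.map (((cxAdj i).homEquiv L I).symm f) := by
  rw [evApp, ← Category.assoc, Functor.mapDerivedCategoryFactors_hom_naturality, Category.assoc,
    ← Functor.map_comp, Adjunction.homEquiv_counit]

theorem bijective_evApp (L : CochainComplex Z.Modules ℤ) (I : CochainComplex X.Modules ℤ) [I.IsKInjective]
    [CochainComplex.IsKInjective (((Dual3.homO i).mapHomologicalComplex (ComplexShape.up ℤ)).obj I)] :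
    Function.Bijective fun φ : DerivedCategory.Q.obj L ⟶
        DerivedCategory.Q.obj (((Dual3.homO i).mapHomologicalComplex (ComplexShape.up ℤ)).obj I) =>
      (Dual3.pushD i).map φ ≫ evApp i I := by
  refine ⟨fun a b h => ?_, fun y => ?_⟩
  · obtain ⟨f, rfl⟩ := exists_Q_map a
    obtain ⟨g, rfl⟩ := exists_Q_map b
    simp only [pushD_map_evApp, cancel_epi] at h
    obtain ⟨H⟩ : Nonempty (Homotopy (((cxAdj i).homEquiv L I).symm f) (((cxAdj i).homEquiv L I).symm g)) :=
      homotopy_of_Q_map_eq _ _ h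
    have e : ∀ k, f = ((cxAdj i).homEquiv L I) k →
        f = (cxAdj i).unit.app L ≫ ((Dual3.homO i).mapHomologicalComplex _).map k := fun k hk =>
      hk.trans ((cxAdj i).homEquiv_unit L I k)
    rw [e _ (Equiv.apply_symm_apply _ f).symm, ← (((cxAdj i).homEquiv L I).apply_symm_apply g),
      (cxAdj i).homEquiv_unit]
    exact DerivedCategory.Q_map_eq_of_homotopy _
      (((Dual3.homO i).mapHomotopy H).compLeft ((cxAdj i).unit.app L))
  · obtain ⟨b, hb⟩ := exists_Q_map (inv ((Scheme.Modules.pushforward i).mapDerivedCategoryFactors.hom.app L) ≫ y)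
    refine ⟨DerivedCategory.Q.map ((cxAdj i).homEquiv L I b), ?_⟩
    show (Dual3.pushD i).map _ ≫ evApp i I = y
    rw [pushD_map_evApp, Equiv.symm_apply_apply, hb, IsIso.hom_inv_id_assoc]

variable [EnoughInjectives X.Modules]

/-- The evaluation `i_* RHom(O_Z, K) ⟶ K`, with its universal property. -/
theorem exists_ev : ∃ ε : Dual3.RHomOPlus i ⋙
      (DerivedCategory.Plus.ι : DerivedCategory.Plus Z.Modules ⥤ DCoh.D Z) ⋙ Dual3.pushD i ⟶
        (DerivedCategory.Plus.ι : DerivedCategory.Plus X.Modules ⥤ DCoh.D X),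
    ∀ (K : DerivedCategory.Plus X.Modules) (L : DCoh.D Z),
      Function.Bijective fun φ : L ⟶ ((Dual3.RHomOPlus i).obj K).obj =>
        (Dual3.pushD i).map φ ≫ ε.app K := by
  let cH := (Dual3.homO i).mapHomologicalComplex (ComplexShape.up ℤ)
  let eR : phi (X := X) ⋙ Dual3.RHomOPlus i ⋙
      (DerivedCategory.Plus.ι : DerivedCategory.Plus Z.Modules ⥤ DCoh.D Z) ≅
      jf ⋙ cH ⋙ DerivedCategory.Q :=
    Functor.isoWhiskerLeft (HomotopyCategory.Plus.quotient _)
        (Functor.isoWhiskerRight (TriCat.rightDerivedPlusIso X.Modules (Dual3.homO i))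
          DerivedCategory.Plus.ι) ≪≫
      Functor.isoWhiskerLeft (jf ⋙ cH) (DerivedCategory.quotientCompQhIso Z.Modules)
  let evN : cH ⋙ DerivedCategory.Q ⋙ Dual3.pushD i ⟶ DerivedCategory.Q :=
    { app := evApp i
      naturality := fun I J f => by
        show (Dual3.pushD i).map (DerivedCategory.Q.map (cH.map f)) ≫ evApp i J = evApp i I ≫ _
        rw [pushD_map_evApp, evApp, Category.assoc, ← Functor.map_comp]
        congr 2
        rw [Adjunction.homEquiv_counit]
        exact (cxAdj i).counit.naturality f }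
  let η : phi (X := X) ⋙ (Dual3.RHomOPlus i ⋙
      (DerivedCategory.Plus.ι : DerivedCategory.Plus Z.Modules ⥤ DCoh.D Z) ⋙ Dual3.pushD i) ⟶
      phi (X := X) ⋙ (DerivedCategory.Plus.ι : DerivedCategory.Plus X.Modules ⥤ DCoh.D X) :=
    Functor.whiskerRight eR.hom (Dual3.pushD i) ≫ Functor.whiskerLeft jf evN ≫ (phiIso (X := X)).inv
  obtain ⟨ε, hε⟩ := exists_natTrans_of_precomp (phi (X := X)) η
  refine ⟨ε, fun K L => ?_⟩
  obtain ⟨J, ⟨eK⟩⟩ : ∃ J, Nonempty ((phi (X := X)).obj J ≅ K) :=
    ⟨_, ⟨(phi (X := X)).objObjPreimageIso K⟩⟩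
  let T := DerivedCategory.Q.objPreimage L
  let eL : DerivedCategory.Q.obj T ≅ L := DerivedCategory.Q.objObjPreimageIso L
  obtain ⟨n, hn⟩ := J.property
  haveI : ∀ k, Injective ((jf.obj J).X k) := fun k => (J.obj.X k).property
  haveI : CochainComplex.IsStrictlyGE (jf.obj J) n :=
    inferInstanceAs (CochainComplex.IsStrictlyGE
      (((InjectiveObject.ι X.Modules).mapHomologicalComplex _).obj J.obj) n)
  haveI : CochainComplex.IsKInjective (jf.obj J) := CochainComplex.isKInjective_of_injective _ n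
  haveI : ∀ k, Injective ((cH.obj (jf.obj J)).X k) := fun k =>
    Injective.injective_of_adjoint (Dual3.homOAdj i) _
  haveI : CochainComplex.IsStrictlyGE (cH.obj (jf.obj J)) n := inferInstance
  haveI : CochainComplex.IsKInjective (cH.obj (jf.obj J)) := CochainComplex.isKInjective_of_injective _ n
  let eR' := (DerivedCategory.Plus.ι : DerivedCategory.Plus Z.Modules ⥤ DCoh.D Z).mapIso
    ((Dual3.RHomOPlus i).mapIso eK)
  have hb := bijective_evApp i T (jf.obj J)
  have key : ∀ φ : L ⟶ ((Dual3.RHomOPlus i).obj K).obj,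
      (Dual3.pushD i).map (eL.hom ≫ φ ≫ eR'.inv ≫ eR.hom.app J) ≫ evApp i (jf.obj J) =
        (Dual3.pushD i).map eL.hom ≫ ((Dual3.pushD i).map φ ≫ ε.app K) ≫
          ((DerivedCategory.Plus.ι : DerivedCategory.Plus X.Modules ⥤ DCoh.D X).map eK.inv ≫
            (phiIso (X := X)).hom.app J) := fun φ => by
    have h := ε.naturality eK.inv
    simp only [Functor.map_comp, Category.assoc]
    refine congrArg (_ ≫ ·) (congrArg (_ ≫ ·) ?_)
    rw [← reassoc_of% h]
    erw [hε J]
    simp [η, eR', evN]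
  refine ⟨fun a b h => ?_, fun y => ?_⟩
  · have h' := (key a).trans ((congrArg (fun w => (Dual3.pushD i).map eL.hom ≫ w ≫
      ((DerivedCategory.Plus.ι : DerivedCategory.Plus X.Modules ⥤ DCoh.D X).map eK.inv ≫
        (phiIso (X := X)).hom.app J)) h).trans (key b).symm)
    have h'' := hb.1 h'
    simpa only [cancel_epi, ← Category.assoc, cancel_mono] using h''
  · obtain ⟨c, hc⟩ := hb.2 ((Dual3.pushD i).map eL.hom ≫ y ≫
      ((DerivedCategory.Plus.ι : DerivedCategory.Plus X.Modules ⥤ DCoh.D X).map eK.inv ≫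
        (phiIso (X := X)).hom.app J))
    refine ⟨eL.inv ≫ c ≫ eR.inv.app J ≫ eR'.hom, ?_⟩
    have h := key (eL.inv ≫ c ≫ eR.inv.app J ≫ eR'.hom)
    simp only [Category.assoc, Iso.hom_inv_id_assoc, Iso.inv_hom_id_assoc, Iso.inv_hom_id_app,
      Category.comp_id] at h
    erw [Category.comp_id c] at h
    refine (cancel_mono (((DerivedCategory.Plus.ι : DerivedCategory.Plus X.Modules ⥤ DCoh.D X).map eK.inv ≫
        (phiIso (X := X)).hom.app J))).1 ((Category.assoc _ _ _).trans
      ((cancel_epi ((Dual3.pushD i).map eL.hom)).1 (h.symm.trans hc)))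

/-- `Ri_* = i_*` on derived categories. -/
theorem nonempty_rpush_pushD [DCoh.HasRpush i] : Nonempty (DCoh.Rpush i ≅ Dual3.pushD i) := by
  let G := Scheme.Modules.pushforward i
  let W := HomotopyCategory.quasiIso Z.Modules (ComplexShape.up ℤ)
  letI : Localization.Lifting DerivedCategory.Qh W (DCoh.pushKh i) G.mapDerivedCategory :=
    ⟨G.mapDerivedCategoryFactorsh⟩
  have h1 := Functor.isRightDerivedFunctor_of_inverts W G.mapDerivedCategory G.mapDerivedCategoryFactorsh
  exact ⟨Functor.rightDerivedUnique (DCoh.Rpush i) G.mapDerivedCategory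
    ((DCoh.pushKh i).totalRightDerivedUnit DerivedCategory.Qh W) G.mapDerivedCategoryFactorsh.inv W⟩

/-- A right adjoint of `Ri_*` on `D_QCoh` is `RHom(O_Z, -)` on bounded below objects. -/
theorem nonempty_rightAdjoint_iso [DCoh.HasRpush i] (hf : DCoh.RpushPreservesQCoh i)
    (hq : ∀ K : DerivedCategory.Plus X.Modules, DCoh.IsQCohD K.obj → DCoh.IsQCohD ((Dual3.RHomOPlus i).obj K).obj)
    (a : DCoh.DQCoh X ⥤ DCoh.DQCoh Z) (adj : DCoh.RpushQ i hf ⊣ a) :
    Nonempty (Dual3.bddι X ⋙ a ⋙ ObjectProperty.ι _ ≅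
      Dual3.bddToPlus X ⋙ Dual3.RHomOPlus i ⋙
        (DerivedCategory.Plus.ι : DerivedCategory.Plus Z.Modules ⥤ DCoh.D Z)) := by
  obtain ⟨ε, hε⟩ := exists_ev i
  obtain ⟨eP⟩ := nonempty_rpush_pushD i
  let R : (Dual3.IsBddBelowQ X).FullSubcategory ⥤ DCoh.DQCoh Z :=
    ObjectProperty.lift _ (Dual3.bddToPlus X ⋙ Dual3.RHomOPlus i ⋙
      (DerivedCategory.Plus.ι : DerivedCategory.Plus Z.Modules ⥤ DCoh.D Z))
      fun K => hq ((Dual3.bddToPlus X).obj K) K.obj.property
  let β : ∀ K, (DCoh.RpushQ i hf).obj (R.obj K) ⟶ (Dual3.bddι X).obj K := fun K =>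
    ObjectProperty.homMk (eP.hom.app _ ≫ ε.app ((Dual3.bddToPlus X).obj K))
  let θ : R ⟶ Dual3.bddι X ⋙ a :=
    { app := fun K => adj.homEquiv _ _ (β K)
      naturality := fun K K' f => by
        refine (adj.homEquiv_naturality_left _ _).symm.trans ?_
        refine Eq.trans (congrArg _ ?_) (adj.homEquiv_naturality_right _ _)
        refine ObjectProperty.hom_ext _ ?_
        show (DCoh.Rpush i).map (R.map f).hom ≫ eP.hom.app _ ≫ ε.app _ =
          (eP.hom.app _ ≫ ε.app _) ≫ f.hom.hom
        rw [eP.hom.naturality_assoc, Category.assoc]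
        exact congrArg (_ ≫ ·) (ε.naturality ((Dual3.bddToPlus X).map f)) }
  have : ∀ K, IsIso (θ.app K) := fun K => by
    refine isIso_of_yoneda_map_bijective _ fun L => ?_
    have hb := hε ((Dual3.bddToPlus X).obj K) L.obj
    have key : ∀ φ : L ⟶ R.obj K, ((adj.homEquiv _ _).symm (φ ≫ θ.app K)).hom =
        eP.hom.app L.obj ≫ (Dual3.pushD i).map φ.hom ≫ ε.app ((Dual3.bddToPlus X).obj K) := fun φ => by
      show ((adj.homEquiv _ _).symm (φ ≫ adj.homEquiv _ _ (β K))).hom = _
      rw [adj.homEquiv_naturality_left_symm, Equiv.symm_apply_apply]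
      exact (eP.hom.naturality_assoc φ.hom _)
    refine ⟨fun φ ψ h => ObjectProperty.hom_ext _ (hb.1 ?_), fun y => ?_⟩
    · have h' := congrArg (fun z => ((adj.homEquiv _ _).symm z).hom) h
      simp only [key, cancel_epi] at h'
      exact h'
    · obtain ⟨c, hc⟩ := hb.2 (inv (eP.hom.app L.obj) ≫ ((adj.homEquiv _ _).symm y).hom)
      refine ⟨ObjectProperty.homMk c, (adj.homEquiv _ _).symm.injective (ObjectProperty.hom_ext _ ?_)⟩
      refine (key _).trans ?_
      exact (congrArg (eP.hom.app L.obj ≫ ·) hc).trans (IsIso.hom_inv_id_assoc _ _)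
  haveI := NatIso.isIso_of_isIso_app θ
  exact ⟨(Functor.isoWhiskerRight (asIso θ) (ObjectProperty.ι _)).symm⟩

end Groth.Agent.RHomO7
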