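import Groth.Agent.RHomO7.BoundedInj

/-!
# Coherence and bounds of `RHom(-, K)` for `K` of finite injective dimension
-/

set_option linter.style.haveILetI false
set_option backward.isDefEq.respectTransparency false

universe u

open CategoryTheory CategoryTheory.Limits CategoryTheory.Pretriangulated AlgebraicGeometry

attribute [local instance] HasDerivedCategory.standard

namespace Groth.Agent.RHomO7.BoundedInj

open Groth.Agent.KFlatLib

variable {X : Scheme.{u}}

/-- `RHom` from a pseudo-coherent object into a bounded below one with coherent cohomology. -/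
theorem isCoh_HD_RSheafHom_of_pseudoCoherent [IsLocallyNoetherian X] (K : CochainComplex X.Modules ℤ)
    [DCoh.HasLTensorCx K] [DCoh.HasRSheafHom K] (L : DCoh.D X) (hL : DCoh.IsCohD L) (a : ℤ) [L.IsGE a]
    (i : ℤ) (hK : DCoh.IsPseudoCoherentD (a - i - 1) (DCoh.toD X K)) :
    Coh.IsCoh (DCoh.HD ((DCoh.RSheafHom K).obj L) i) := by
  refine isCoh_of_local fun x => ?_
  obtain ⟨U, j, hj, hx, h⟩ := exists_local_model K L a i hK x
  haveI : IsLocallyNoetherian U := isLocallyNoetherian_of_isOpenImmersion j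
  haveI : (DCoh.IsCohD (X := U)).IsClosedUnderIsomorphisms := ⟨isCohD_of_iso⟩
  obtain ⟨Z, hZ, ⟨e⟩⟩ := h DCoh.IsCohD (fun C hC i => isCoh_of_isZero (Functor.map_isZero _ hC))
    (fun T hT h₁ h₃ => isCohD_obj₂ hT h₁ h₃) fun n => isCohD_shift (isCohD_rho j hL) n
  exact ⟨U, j, hj, hx, isCoh_of_iso (e ≪≫ restrictHDIso j _ i) (hZ (i + 1))⟩

/-- Coherent cohomology into coherent cohomology with a bounded injective model gives coherent
cohomology. -/
theorem isCohD_RSheafHom [IsLocallyNoetherian X] (E : CochainComplex X.Modules ℤ) [DCoh.HasLTensorCx E]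
    [DCoh.HasRSheafHom E] (hE : DCoh.IsCohD (DCoh.toD X E)) (J : CochainComplex X.Modules ℤ)
    [∀ n, Injective (J.X n)] (a b : ℤ) [J.IsStrictlyGE a] [J.IsStrictlyLE b]
    (hJ : DCoh.IsCohD (DerivedCategory.Q.obj J)) :
    DCoh.IsCohD ((DCoh.RSheafHom E).obj (DerivedCategory.Q.obj J)) := fun i => by
  obtain ⟨T, hT₀, hT₁, hT⟩ := exists_trunc E J a b i
  haveI : DCoh.HasLTensorCx T := hasLTensorCx _
  haveI : DCoh.HasRSheafHom T := PerfGen7.hasRSheafHom _
  obtain ⟨e⟩ := hT
  have hTc : DCoh.IsCohD (DCoh.toD X T) := fun k => by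
    by_cases hk : k + 1 ≤ b - i
    · obtain ⟨e'⟩ := hT₁ k hk
      exact isCoh_of_iso e'.symm (hE (k + 1))
    · exact isCoh_of_isZero (hT₀ k (by omega))
  have hpc : DCoh.IsPseudoCoherentD (a - (i + 1) - 1) (DCoh.toD X T) :=
    (isPseudoCoherentD_iff _ _).2
      (locPC_of_coh (isCohD_isQCohD hTc) (fun k _ => hTc k) (b - i) fun k hk => hT₀ k (by omega))
  exact isCoh_of_iso e.symm (isCoh_HD_RSheafHom_of_pseudoCoherent T _ hJ a (i + 1) hpc)

/-- A bounded below object into a bounded injective complex gives a bounded above `RHom`. -/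
theorem isLE_RSheafHom (E : CochainComplex X.Modules ℤ) [DCoh.HasLTensorCx E] [DCoh.HasRSheafHom E]
    (c : ℤ) [(DCoh.toD X E).IsGE c] (J : CochainComplex X.Modules ℤ) [∀ n, Injective (J.X n)]
    (a b : ℤ) [J.IsStrictlyGE a] [J.IsStrictlyLE b] (k : ℤ) (hk : b - c < k) :
    IsZero (DCoh.HD ((DCoh.RSheafHom E).obj (DerivedCategory.Q.obj J)) k) := by
  haveI : J.IsKInjective := CochainComplex.isKInjective_of_injective J a
  obtain ⟨e⟩ := nonempty_RSheafHom_iso E J
  haveI : CochainComplex.IsGE E c := (DerivedCategory.isGE_Q_obj_iff E c).1 inferInstance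
  haveI : QuasiIso (E.πTruncGE c) := (E.quasiIso_πTruncGE_iff c).2 inferInstance
  haveI := quasiIso_iHomMap (E.πTruncGE c) J
  exact (isZero_homology_iHom_high (E.truncGE c) J c b k (by omega)).of_iso
    ((DerivedCategory.homologyFunctor X.Modules k).mapIso e ≪≫
      (DerivedCategory.homologyFunctorFactors X.Modules k).app _ ≪≫
      (asIso (HomologicalComplex.homologyMap ((iHomMap (E.πTruncGE c)).app J) k)).symm)

end Groth.Agent.RHomO7.BoundedInj
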