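import Groth.Agent.RHomO7.BoundedInj
import Groth.Agent.KFlatLib.Scheme.CoEvalPerfect
import Groth.Agent.PerfGen7.TensorTri
import Groth.Agent.PerfGen7.HasRHom

/-!
# Morphisms inducing isomorphisms in high or low degrees on an open, and local amplitude
-/

set_option linter.style.haveILetI false
set_option backward.isDefEq.respectTransparency false

universe u v w

open CategoryTheory CategoryTheory.Limits AlgebraicGeometry

attribute [local instance] HasDerivedCategory.standard

namespace Groth.Agent.RHomO7.LocalAmp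

open Groth.Agent.KFlatLib

section Generic

variable {C : Type w} [Category.{v} C] [Abelian C] {S : ShortComplex (CochainComplex C ℤ)}

lemma isZero_X₃_of_isIso (hS : S.ShortExact) (q : ℤ) (h₀ : IsIso (HomologicalComplex.homologyMap S.f q))
    (h₁ : IsIso (HomologicalComplex.homologyMap S.f (q + 1))) : IsZero (S.X₃.homology q) := by
  have hg : HomologicalComplex.homologyMap S.g q = 0 := by
    rw [← cancel_epi (HomologicalComplex.homologyMap S.f q), comp_zero,
      ← HomologicalComplex.homologyMap_comp, S.zero, HomologicalComplex.homologyMap_zero]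
  have hδ : hS.δ q (q + 1) rfl = 0 := by
    rw [← cancel_mono (HomologicalComplex.homologyMap S.f (q + 1)), zero_comp]
    exact hS.δ_comp q (q + 1) rfl
  exact (hS.homology_exact₃ q (q + 1) rfl).isZero_X₂ hg hδ

lemma isIso_f_of_isZero (hS : S.ShortExact) (q : ℤ) (h₀ : IsZero (S.X₃.homology (q - 1)))
    (h₁ : IsZero (S.X₃.homology q)) : IsIso (HomologicalComplex.homologyMap S.f q) := by
  haveI : Mono (HomologicalComplex.homologyMap S.f q) :=
    (hS.homology_exact₁ (q - 1) q (by simp)).mono_g (h₀.eq_of_src _ _)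
  haveI : Epi (HomologicalComplex.homologyMap S.f q) :=
    (hS.homology_exact₂ q).epi_f (h₁.eq_of_tgt _ _)
  exact isIso_of_mono_of_epi _

lemma isIso_g_of_isZero (hS : S.ShortExact) (q : ℤ) (h₀ : IsZero (S.X₁.homology q))
    (h₁ : IsZero (S.X₁.homology (q + 1))) : IsIso (HomologicalComplex.homologyMap S.g q) := by
  haveI : Epi (HomologicalComplex.homologyMap S.g q) :=
    (hS.homology_exact₃ q (q + 1) (by simp)).epi_f (h₁.eq_of_tgt _ _)
  haveI : Mono (HomologicalComplex.homologyMap S.g q) :=
    (hS.homology_exact₂ q).mono_g (h₀.eq_of_src _ _)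
  exact isIso_of_mono_of_epi _

lemma isIso_homologyMap_comp_right_iff {A B D : CochainComplex C ℤ} (f : A ⟶ B) (g : B ⟶ D) (q : ℤ)
    [IsIso (HomologicalComplex.homologyMap g q)] :
    IsIso (HomologicalComplex.homologyMap (f ≫ g) q) ↔ IsIso (HomologicalComplex.homologyMap f q) := by
  rw [HomologicalComplex.homologyMap_comp]
  exact ⟨fun _ => IsIso.of_isIso_comp_right _ (HomologicalComplex.homologyMap g q), fun _ => inferInstance⟩

lemma isIso_homologyMap_comp_left_iff {A B D : CochainComplex C ℤ} (f : A ⟶ B) (g : B ⟶ D) (q : ℤ)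
    [IsIso (HomologicalComplex.homologyMap f q)] :
    IsIso (HomologicalComplex.homologyMap (f ≫ g) q) ↔ IsIso (HomologicalComplex.homologyMap g q) := by
  rw [HomologicalComplex.homologyMap_comp]
  exact ⟨fun _ => IsIso.of_isIso_comp_left (HomologicalComplex.homologyMap f q) _, fun _ => inferInstance⟩

lemma isIso_homologyMap_iff_of_arrow_iso {A B A' B' : CochainComplex C ℤ} {f : A ⟶ B} {f' : A' ⟶ B'}
    (e : Arrow.mk f ≅ Arrow.mk f') (q : ℤ) :
    IsIso (HomologicalComplex.homologyMap f q) ↔ IsIso (HomologicalComplex.homologyMap f' q) :=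
  (MorphismProperty.isomorphisms C).arrow_mk_iso_iff
    ((HomologicalComplex.homologyFunctor C (ComplexShape.up ℤ) q).mapArrow.mapIso e)

end Generic

variable {X : Scheme.{u}} {U : Scheme.{u}} (j : U ⟶ X) [IsOpenImmersion j]

/-- `f` induces isomorphisms on the cohomology over `U` in degree `q`. -/
def IsoAt {A B : CochainComplex X.Modules ℤ} (f : A ⟶ B) (q : ℤ) : Prop :=
  IsIso (HomologicalComplex.homologyMap ((rCx j).map f) q)

lemma isoAt_of_quasiIso {A B : CochainComplex X.Modules ℤ} (f : A ⟶ B) [QuasiIso ((rCx j).map f)] (q : ℤ) :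
    IsoAt j f q := by
  rw [IsoAt, ← quasiIsoAt_iff_isIso_homologyMap]
  infer_instance

/-- `iHom(-, J)` over `U` behaves as for a complex of injectives in degrees `[a, b]`. -/
structure LocInj (J : CochainComplex X.Modules ℤ) (a b : ℤ) : Prop where
  low : ∀ (C : CochainComplex X.Modules ℤ) (k : ℤ), (∀ q, k ≤ q → IsZero (((rCx j).obj C).homology q)) →
    ∀ i, i + k ≤ a → IsZero (((rCx j).obj ((iHom C).obj J)).homology i)
  high : ∀ (C : CochainComplex X.Modules ℤ) (k : ℤ), (∀ q, q ≤ k → IsZero (((rCx j).obj C).homology q)) →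
    ∀ i, b ≤ i + k → IsZero (((rCx j).obj ((iHom C).obj J)).homology i)

/-- A local bounded injective model gives local amplitude. -/
theorem LocInj.of_model (J : CochainComplex X.Modules ℤ) [J.IsKInjective] [∀ n, Injective (J.X n)]
    (J' : CochainComplex U.Modules ℤ) [∀ n, Injective (J'.X n)] (a b : ℤ) [J'.IsStrictlyGE a]
    [J'.IsStrictlyLE b]
    (e : DerivedCategory.Q.obj ((rCx j).obj J) ≅ DerivedCategory.Q.obj J') : LocInj j J a b := by
  haveI : J'.IsKInjective := CochainComplex.isKInjective_of_injective J' a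
  let rJ := (rCx j).obj J
  haveI : rJ.IsKInjective := isKInjective_rCx j J
  haveI : ∀ n, Injective (rJ.X n) := injective_rCx j J
  have key : ∀ (C : CochainComplex X.Modules ℤ) (i : ℤ),
      Nonempty (((rCx j).obj ((iHom C).obj J)).homology i ≅ ((iHom ((rCx j).obj C)).obj J').homology i) := by
    intro C i
    obtain ⟨e₀⟩ := nonempty_iHomRestrictIso j C
    haveI := hasLTensorCx ((rCx j).obj C)
    haveI := PerfGen7.hasRSheafHom ((rCx j).obj C)
    obtain ⟨e₁⟩ := nonempty_RSheafHom_iso ((rCx j).obj C) rJ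
    obtain ⟨e₂⟩ := nonempty_RSheafHom_iso ((rCx j).obj C) J'
    exact ⟨(HomologicalComplex.homologyFunctor U.Modules (ComplexShape.up ℤ) i).mapIso (e₀.app J) ≪≫
      ((DerivedCategory.homologyFunctorFactors U.Modules i).app _).symm ≪≫
      (DerivedCategory.homologyFunctor U.Modules i).mapIso
        (e₁.symm ≪≫ (DCoh.RSheafHom ((rCx j).obj C)).mapIso e ≪≫ e₂) ≪≫
      (DerivedCategory.homologyFunctorFactors U.Modules i).app _⟩
  refine ⟨fun C k hC i hi => ?_, fun C k hC i hi => ?_⟩
  · obtain ⟨e'⟩ := key C i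
    let C' := (rCx j).obj C
    haveI : C'.IsLE (k - 1) := (CochainComplex.isLE_iff _ _).2 fun q hq =>
      (C'.exactAt_iff_isZero_homology q).2 (hC q (by omega))
    haveI := quasiIso_iHomMap (C'.ιTruncLE (k - 1)) J'
    exact ((isZero_homology_iHom (C'.truncLE (k - 1)) J' (k - 1) a i (by omega)).of_iso
      (asIso (HomologicalComplex.homologyMap ((iHomMap (C'.ιTruncLE (k - 1))).app J') i))).of_iso e'
  · obtain ⟨e'⟩ := key C i
    let C' := (rCx j).obj C
    haveI : C'.IsGE (k + 1) := (CochainComplex.isGE_iff _ _).2 fun q hq =>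
      (C'.exactAt_iff_isZero_homology q).2 (hC q (by omega))
    haveI := quasiIso_iHomMap (C'.πTruncGE (k + 1)) J'
    exact ((BoundedInj.isZero_homology_iHom_high (C'.truncGE (k + 1)) J' (k + 1) b i (by omega)).of_iso
      (asIso (HomologicalComplex.homologyMap ((iHomMap (C'.πTruncGE (k + 1))).app J') i)).symm).of_iso e'

variable {j}

/-- `f` and its degreewise split embedding have the same local behaviour. -/
lemma embed_fac {A B : CochainComplex X.Modules ℤ} (f : A ⟶ B) :
    ∃ (e : (B ⊞ CochainComplex.mappingCone (𝟙 A)) ⟶ B), QuasiIso e ∧ QuasiIso ((rCx j).map e) ∧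
      f = embedCone f ≫ e := by
  let e := homotopyEquivFst (G := B) (CochainComplex.mappingCone.homotopyToZeroOfId A)
  haveI : QuasiIso e.hom := e.quasiIso_hom
  exact ⟨e.hom, inferInstance, inferInstance, by simp [e, homotopyEquivFst, embedCone]⟩

lemma isZero_embed_X₃ {A B : CochainComplex X.Modules ℤ} (f : A ⟶ B) (q : ℤ)
    (h₀ : IsoAt j f q) (h₁ : IsoAt j f (q + 1)) :
    IsZero (((rCx j).obj (embedConeSeq f).X₃).homology q) := by
  obtain ⟨e, -, he, hf⟩ := embed_fac (j := j) f
  haveI := he
  have h : ∀ p, IsoAt j f p → IsIso (HomologicalComplex.homologyMap ((rCx j).map (embedCone f)) p) := fun p hp => by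
    haveI : IsIso (HomologicalComplex.homologyMap ((rCx j).map e) p) := isoAt_of_quasiIso j e p
    rw [IsoAt, hf, Functor.map_comp] at hp
    exact (isIso_homologyMap_comp_right_iff _ _ p).1 hp
  exact isZero_X₃_of_isIso ((embedConeSeq_shortExact f).map_of_exact (rCx j)) q (h q h₀) (h (q + 1) h₁)

variable (j) in
/-- `iHom(f, J)` over `U` only depends on `f` away from where it is invertible. -/
lemma isoAt_iHomMap {A B : CochainComplex X.Modules ℤ} (f : A ⟶ B) (J : CochainComplex X.Modules ℤ)
    [∀ n, Injective (J.X n)] [J.IsKInjective] (i : ℤ)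
    (h₀ : IsZero (((rCx j).obj ((iHom (embedConeSeq f).X₃).obj J)).homology i))
    (h₁ : IsZero (((rCx j).obj ((iHom (embedConeSeq f).X₃).obj J)).homology (i + 1))) :
    IsoAt j ((iHomMap f).app J) i := by
  obtain ⟨e, heq, he, hf⟩ := embed_fac (j := j) f
  haveI := heq
  haveI := quasiIso_iHomMap e J
  obtain ⟨hw, hse⟩ := Inner.innerHom_shortExact (DCoh.tensorBi (X := X)) (embedConeSeq f)
    (fun n => ⟨embedConeSplitting f n⟩) J
  have h := isIso_g_of_isZero (hse.map_of_exact (rCx j)) i h₀ h₁
  haveI : IsIso (HomologicalComplex.homologyMap ((rCx j).map ((iHomMap e).app J)) i) :=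
    isoAt_of_quasiIso j _ i
  rw [IsoAt, congrArg (fun φ => (iHomMap φ).app J) hf, iHomMap_comp, Functor.map_comp,
    isIso_homologyMap_comp_left_iff]
  exact h

/-- Isomorphisms in degrees `≥ k` become isomorphisms in low degrees after `iHom(-, J)`. -/
theorem LocInj.isoAt_low {J : CochainComplex X.Modules ℤ} [∀ n, Injective (J.X n)] [J.IsKInjective]
    {a b : ℤ} (hJ : LocInj j J a b) {A B : CochainComplex X.Modules ℤ} (f : A ⟶ B) (k : ℤ)
    (hf : ∀ q, k ≤ q → IsoAt j f q) (i : ℤ) (hi : i + 1 + k ≤ a) : IsoAt j ((iHomMap f).app J) i :=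
  isoAt_iHomMap j f J i
    (hJ.low _ k (fun q hq => isZero_embed_X₃ f q (hf q hq) (hf (q + 1) (by omega))) i (by omega))
    (hJ.low _ k (fun q hq => isZero_embed_X₃ f q (hf q hq) (hf (q + 1) (by omega))) (i + 1) (by omega))

/-- Isomorphisms in degrees `≤ k` become isomorphisms in high degrees after `iHom(-, J)`. -/
theorem LocInj.isoAt_high {J : CochainComplex X.Modules ℤ} [∀ n, Injective (J.X n)] [J.IsKInjective]
    {a b : ℤ} (hJ : LocInj j J a b) {A B : CochainComplex X.Modules ℤ} (f : A ⟶ B) (k : ℤ)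
    (hf : ∀ q, q ≤ k → IsoAt j f q) (i : ℤ) (hi : b + 1 ≤ i + k) : IsoAt j ((iHomMap f).app J) i :=
  isoAt_iHomMap j f J i
    (hJ.high _ (k - 1) (fun q hq => isZero_embed_X₃ f q (hf q (by omega)) (hf (q + 1) (by omega))) i
      (by omega))
    (hJ.high _ (k - 1) (fun q hq => isZero_embed_X₃ f q (hf q (by omega)) (hf (q + 1) (by omega))) (i + 1)
      (by omega))

variable (j) in
/-- Tensor products with a K-flat complex bounded above on `U`. -/
theorem isoAt_tensor {R : CochainComplex X.Modules ℤ} (hR : DCoh.IsKFlat R)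
    (hR' : ∀ p, FlatMod.IsFlat (R.X p)) (r : ℤ) (hr : ∀ q, r < q → IsZero (((rCx j).obj R).homology q))
    {A B : CochainComplex X.Modules ℤ} (f : A ⟶ B) (k : ℤ) (hf : ∀ q, k ≤ q → IsoAt j f q) (i : ℤ)
    (hi : r + k + 1 ≤ i) : IsoAt j ((DCoh.tensorCx.obj R).map f) i := by
  obtain ⟨e, heq, he, hfe⟩ := embed_fac (j := j) f
  haveI := heq
  have hz : ∀ q, r + k ≤ q →
      IsZero (((rCx j).obj ((DCoh.tensorCx.obj R).obj (embedConeSeq f).X₃)).homology q) := fun q hq => by
    let R' := (rCx j).obj R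
    let C' := (rCx j).obj (embedConeSeq f).X₃
    haveI := hasLTensorCx C'
    haveI : (DerivedCategory.Q.obj R').IsLE r := (DerivedCategory.isLE_iff _ r).2 fun p hp =>
      (hr p hp).of_iso ((DerivedCategory.homologyFunctorFactors U.Modules p).app R')
    haveI : (DCoh.toD U C').IsLE (k - 1) := (DerivedCategory.isLE_iff _ _).2 fun p hp =>
      (isZero_embed_X₃ f p (hf p (by omega)) (hf (p + 1) (by omega))).of_iso
        ((DerivedCategory.homologyFunctorFactors U.Modules p).app C')
    haveI := PerfGen7.isLE_ltensor C' (k - 1) (DerivedCategory.Q.obj R') r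
    exact (((DCoh.LTensorCx C').obj (DerivedCategory.Q.obj R')).isZero_of_isLE (r + (k - 1)) q (by omega)).of_iso
      ((HomologicalComplex.homologyFunctor U.Modules (ComplexShape.up ℤ) q).mapIso
          (totalMapIso (restrictTensorBiIso j) R (embedConeSeq f).X₃).symm ≪≫
        ((DerivedCategory.homologyFunctorFactors U.Modules q).app _).symm ≪≫
        (DerivedCategory.homologyFunctor U.Modules q).mapIso
          (ltensorCxIso C' (isKFlat_restrict j hR)).symm)
  haveI : QuasiIso ((DCoh.tensorCx.obj R).map e) :=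
    (kFlat_iff_isKFlat.2 hR).quasiIso_map' (tensorBiFlipIso X) e
  haveI : IsIso (HomologicalComplex.homologyMap ((rCx j).map ((DCoh.tensorCx.obj R).map e)) i) :=
    isoAt_of_quasiIso j _ i
  have h := isIso_f_of_isZero ((shortExact_tensorCx_of_flat R hR' (embedConeSeq_shortExact f)).map_of_exact
    (rCx j)) i (hz (i - 1) (by omega)) (hz i (by omega))
  rw [IsoAt, hfe, Functor.map_comp, Functor.map_comp, isIso_homologyMap_comp_right_iff]
  exact h

end Groth.Agent.RHomO7.LocalAmp
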