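import Groth.Agent.RHomO7.AffineDuality
import Groth.Agent.RHomO7.LocalAmp
import Groth.Agent.RHomO7.CohBounded
import Groth.Agent.KFlatLib.Ring.Dualizing
import Groth.Agent.KFlatLib.Perfect.Top
import Groth.Prelude.Def_DualSch

/-!
# Local models of dualizing complexes on schemes
-/

set_option linter.style.haveILetI false
set_option backward.isDefEq.respectTransparency false
set_option maxHeartbeats 800000

universe u

open CategoryTheory CategoryTheory.Limits AlgebraicGeometry

attribute [local instance] HasDerivedCategory.standard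

namespace Groth.Agent.RHomO7.DualizingModel

open Groth.Agent.KFlatLib AffineDuality

variable {R : CommRingCat.{u}} [IsNoetherianRing R] [PreservesFiniteLimits (tilde.functor R)]

/-- A bounded injective model of `ω^~` on `Spec R`. -/
theorem exists_model {ω : Dual.D R} (hω : Dual.IsDualizing R ω) :
    ∃ (J : CochainComplex (Spec R).Modules ℤ) (a b : ℤ), (∀ n, Injective (J.X n)) ∧
      J.IsStrictlyGE a ∧ J.IsStrictlyLE b ∧ Nonempty ((tD R).obj ω ≅ DerivedCategory.Q.obj J) := by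
  obtain ⟨a, b, I, hI, hinj, ⟨eI⟩⟩ := finiteInjDim_of_isDualizing hω
  refine ⟨tA.obj I, a, b, fun n => ?_, ?_, ?_, ⟨(tD R).mapIso eI.symm ≪≫
    (tilde.functor R).mapDerivedCategoryFactors.app I⟩⟩
  · haveI := (Module.injective_iff_injective_object R (I.X n)).1 (hinj n)
    exact InjQCoh7.injective_tilde (R := R) (I.X n)
  · rw [CochainComplex.isStrictlyGE_iff]
    exact fun n hn => Functor.map_isZero (tilde.functor R) (hI n (Or.inl hn))
  · rw [CochainComplex.isStrictlyLE_iff]
    exact fun n hn => Functor.map_isZero (tilde.functor R) (hI n (Or.inr hn))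

/-- `ω^~` has coherent cohomology. -/
theorem isCohD_tilde {ω : Dual.D R} (hω : ∀ i : ℤ, Module.Finite R (Dual.HD R ω i)) :
    DCoh.IsCohD ((tD R).obj ω) := fun i =>
  isCoh_of_iso ((mapDCHomologyIso (tilde.functor R) i).app ω).symm ((isCoh_tilde_iff (R := R) _).2 (hω i))

/-- Endomorphisms of `ω^~` commute. -/
theorem comp_comm {ω : Dual.D R} (hω : Dual.IsDualizing R ω) (f g : (tD R).obj ω ⟶ (tD R).obj ω) :
    f ≫ g = g ≫ f := by
  obtain ⟨f', hf⟩ := (tildeD_map_bijective (R := R) ω ω).2 f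
  obtain ⟨g', hg⟩ := (tildeD_map_bijective (R := R) ω ω).2 g
  obtain ⟨a, ha⟩ := hω.toEnd_bijective.2 f'
  obtain ⟨b, hb⟩ := hω.toEnd_bijective.2 g'
  have h : f' ≫ g' = g' ≫ f' := by
    rw [← ha, ← hb]
    simp [smul_smul, mul_comm]
  have h' : (tD R).map (f' ≫ g') = (tD R).map (g' ≫ f') := congrArg _ h
  rw [Functor.map_comp, Functor.map_comp] at h'
  rw [← hf, ← hg]
  exact h'

/-- `RHom(ω^~, ω^~) = O`. -/
theorem nonempty_RHom_self {ω : Dual.D R} (hω : Dual.IsDualizing R ω)
    (J : CochainComplex (Spec R).Modules ℤ) [DCoh.HasLTensorCx J] [DCoh.HasRSheafHom J]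
    (e : DerivedCategory.Q.obj J ≅ (tD R).obj ω) :
    Nonempty ((DCoh.RSheafHom J).obj ((tD R).obj ω) ≅
      DCoh.inD (Spec R) (Coh.structureModule (Spec R))) := by
  haveI : DTen.HasLTen R := hasLTen R
  haveI : DTen.HasRHom R := hasRHom
  let K₀ := DerivedCategory.Q.objPreimage ω
  let e₀ : DRing.toD K₀ ≅ ω := DerivedCategory.Q.objObjPreimageIso ω
  have hE : Nonempty (DCoh.toD _ J ≅ (tD R).obj (DRing.toD K₀)) := ⟨e ≪≫ (tD R).mapIso e₀.symm⟩
  obtain ⟨φ⟩ := nonempty_RSheafHom_iso_of_isQCohD K₀ ω J hE (isQCohD_RSheafHom_tilde K₀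
    (fun i => by
      haveI := hω.finite_cohomology i
      exact Module.Finite.equiv ((DerivedCategory.homologyFunctor _ i).mapIso e₀.symm).toLinearEquiv)
    ω (finiteInjDim_of_isDualizing hω) J hE)
  obtain ⟨ψ⟩ := nonempty_RHom_self_iso hω
  exact ⟨φ ≪≫ (tD R).mapIso ((((DTen.RHom R).mapIso e₀.symm.op).app ω) ≪≫ ψ ≪≫
      ((DerivedCategory.singleFunctorIsoCompQ (ModuleCat.{u} R) 0).app (ModuleCat.of R R)).symm) ≪≫
    ((tilde.functor R).mapDerivedCategorySingleFunctor 0).app (ModuleCat.of R R) ≪≫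
    (DerivedCategory.singleFunctor (Spec R).Modules 0).mapIso (tildeSelf (R := R))⟩

variable {X : Scheme.{u}} [IsLocallyNoetherian X]
  [∀ (U : Scheme.{u}) (j : U ⟶ X) [IsOpenImmersion j], PreservesFiniteLimits (Scheme.Modules.restrictFunctor j)]
  [∀ (R : CommRingCat.{u}), PreservesFiniteLimits (tilde.functor R)]

/-- Affine charts on which a dualizing complex is the tilde of one of the ring. -/
theorem exists_chart_dualizing {K : DCoh.D X} (hK : Dual2.IsDualizingSch X K) (x : X) :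
    ∃ (S : CommRingCat.{u}) (_ : IsNoetherianRing S) (j : Spec S ⟶ X) (_ : IsOpenImmersion j)
      (ω : Dual.D S), x ∈ Set.range j.base ∧ Dual.IsDualizing S ω ∧
        Nonempty ((rho j).obj K ≅ (tD S).obj ω) := by
  obtain ⟨S, hS, j, hj, hx⟩ := exists_chart x
  obtain ⟨ω, hω, ⟨e⟩⟩ := hK S j
  exact ⟨S, hS, j, hj, ω, hx, hω, ⟨e⟩⟩

/-- A K-injective model of a dualizing complex has local amplitude on all small opens. -/
theorem exists_locInj {K : DCoh.D X} (hK : Dual2.IsDualizingSch X K)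
    (J : CochainComplex X.Modules ℤ) [J.IsKInjective] [∀ n, Injective (J.X n)]
    (eJ : K ≅ DerivedCategory.Q.obj J) (x : X) :
    ∃ (V : X.Opens) (a b : ℤ), x ∈ V ∧ ∀ (U : Scheme.{u}) (j : U ⟶ X) [IsOpenImmersion j],
      Set.range j.base ⊆ (V : Set X) → LocalAmp.LocInj j J a b := by
  obtain ⟨S, hS, j, hj, ω, hx, hω, ⟨e⟩⟩ := exists_chart_dualizing hK x
  haveI := hS
  obtain ⟨J', a, b, hinj, ha, hb, ⟨eω⟩⟩ := exists_model hω
  refine ⟨j.opensRange, a, b, hx, fun U j' _ hU => ?_⟩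
  let g : U ⟶ Spec S := IsOpenImmersion.lift j j' hU
  have hg : g ≫ j = j' := IsOpenImmersion.lift_fac j j' hU
  haveI : IsOpenImmersion g := by
    haveI : IsOpenImmersion (g ≫ j) := hg.symm ▸ inferInstance
    exact IsOpenImmersion.of_comp g j
  let J'' := (rCx g).obj J'
  haveI := hinj
  haveI : ∀ n, Injective (J''.X n) := injective_rCx g J'
  haveI : J''.IsStrictlyGE a := by
    rw [CochainComplex.isStrictlyGE_iff]
    exact fun n hn => Functor.map_isZero (Scheme.Modules.restrictFunctor g) (J'.isZero_of_isStrictlyGE a n hn)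
  haveI : J''.IsStrictlyLE b := by
    rw [CochainComplex.isStrictlyLE_iff]
    exact fun n hn => Functor.map_isZero (Scheme.Modules.restrictFunctor g) (J'.isZero_of_isStrictlyLE b n hn)
  exact LocalAmp.LocInj.of_model j' J J'' a b (((rhoQ j').app J).symm ≪≫ (rho j').mapIso eJ.symm ≪≫
    (rhoComp g j j' hg _).symm ≪≫ (rho g).mapIso (e ≪≫ eω) ≪≫ (rhoQ g).app J')

end Groth.Agent.RHomO7.DualizingModel
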