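import Groth.Agent.RHomO7.CoevalCoh
import Groth.Agent.RHomO7.DualizingModel
import Groth.Agent.PerfGen7.UnitDetect
import Groth.Agent.KFlatLib.SymmNat

/-!
# Biduality into a dualizing complex on a scheme
-/

set_option linter.style.haveILetI false
set_option backward.isDefEq.respectTransparency false
set_option maxHeartbeats 800000

universe u

open CategoryTheory CategoryTheory.Limits AlgebraicGeometry

attribute [local instance] HasDerivedCategory.standard

namespace Groth.Agent.RHomO7.Biduality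

open Groth.Agent.KFlatLib LocalAmp AffineDuality

/-- A map with a section up to isomorphism is invertible if endomorphisms commute. -/
theorem isIso_of_section {C : Type*} [Category C] {A B Y : C} (eA : A ≅ Y) (eB : B ≅ Y)
    (hY : ∀ f g : Y ⟶ Y, f ≫ g = g ≫ f) {Z : C} (s : Z ⟶ A) (d : A ⟶ B) [IsIso (s ≫ d)] : IsIso d := by
  let d' := eA.inv ≫ d ≫ eB.hom
  let s' := eB.inv ≫ inv (s ≫ d) ≫ s ≫ eA.hom
  have h : s' ≫ d' = 𝟙 Y := by
    have h0 := IsIso.inv_hom_id_assoc (s ≫ d) eB.hom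
    simp only [Category.assoc] at h0
    simp [s', d', h0]
  haveI : IsIso d' := ⟨s', (hY d' s').trans h, h⟩
  rw [show d = eA.hom ≫ d' ≫ eB.inv by simp [d']]
  infer_instance

variable {X : Scheme.{u}}

variable (X) in
/-- `O[0]`. -/
noncomputable abbrev oneCx : CochainComplex X.Modules ℤ :=
  (HomologicalComplex.single X.Modules (ComplexShape.up ℤ) 0).obj (Coh.structureModule X)

/-- `- ⊗ O = id`. -/
noncomputable def tensorOneIso :
    Inner.tenX (DCoh.tensorBi (X := X)) (oneCx X) ≅ 𝟭 _ :=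
  Inner.tensorUnitShiftIso (DCoh.tensorBi (X := X)) (Coh.structureModule X) (tensorStructureIso X) 0 ≪≫
    shiftFunctorZero' (CochainComplex X.Modules ℤ) (-0) (by simp)

/-- `O ⊗ - = id`. -/
noncomputable def oneTensorIso : DCoh.tensorCx.obj (oneCx X) ≅ 𝟭 _ :=
  (symmIso (tensorBiFlipIso X) (oneCx X)).symm ≪≫ tensorOneIso

lemma isoAt_map_iff {U : Scheme.{u}} (j : U ⟶ X) [IsOpenImmersion j]
    {F : CochainComplex X.Modules ℤ ⥤ CochainComplex X.Modules ℤ} (η : F ≅ 𝟭 _)
    {A B : CochainComplex X.Modules ℤ} (f : A ⟶ B) (q : ℤ) : IsoAt j (F.map f) q ↔ IsoAt j f q :=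
  isIso_homologyMap_iff_of_arrow_iso
    (Arrow.isoMk ((rCx j).mapIso (η.app A)) ((rCx j).mapIso (η.app B))
      (((rCx j).map_comp _ _).symm.trans ((congrArg (rCx j).map (η.hom.naturality f).symm).trans
        ((rCx j).map_comp _ _)))) q

lemma isoAt_oneTensor {U : Scheme.{u}} (j : U ⟶ X) [IsOpenImmersion j] {A B : CochainComplex X.Modules ℤ}
    (f : A ⟶ B) (q : ℤ) : IsoAt j ((DCoh.tensorCx.obj (oneCx X)).map f) q ↔ IsoAt j f q :=
  isoAt_map_iff j (F := DCoh.tensorCx.obj (oneCx X)) oneTensorIso f q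

variable (J : CochainComplex X.Modules ℤ)

/-- The unitor `O ⊗ J ⟶ J`. -/
noncomputable def c₀ : (DCoh.tensorCx.obj (oneCx X)).obj J ⟶ J := (oneTensorIso.app J).hom

/-- The homothety `O ⟶ iHom(J, J)`. -/
noncomputable def ζ : oneCx X ⟶ (iHom J).obj J := (iHomAdj J).homEquiv _ _ (c₀ J)

/-- The canonical `J ⟶ iHom(iHom(J, J), J)`. -/
noncomputable def sec : J ⟶ (iHom ((iHom J).obj J)).obj J :=
  (iHomAdj ((iHom J).obj J)).homEquiv _ _ (evR J J)

theorem isIso_sec_comp : IsIso (sec J ≫ (iHomMap (ζ J)).app J) := by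
  have h : ((iHomAdj (oneCx X)).homEquiv J J).symm (sec J ≫ (iHomMap (ζ J)).app J) =
      (DCoh.tensorCx.obj J).map (ζ J) ≫ evR J J := by
    refine (Inner.homEquiv_innerMap (DCoh.tensorBi (X := X)) (ζ J) _).trans ?_
    rw [sec, Equiv.symm_apply_apply]
    rfl
  have h₂ : (DCoh.tensorCx.obj J).map (ζ J) ≫ evR J J = (braidCx J (oneCx X)).hom ≫ c₀ J := by
    rw [evR]
    refine (Category.assoc _ _ _).symm.trans ((congrArg (· ≫ _)
      (symmIso_naturality_left (tensorBiFlipIso X) J (ζ J))).trans ((Category.assoc _ _ _).trans ?_))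
    refine congrArg (_ ≫ ·) ?_
    exact ((iHomAdj J).homEquiv_counit _ _ _).symm.trans (Equiv.symm_apply_apply _ _)
  obtain ⟨e⟩ := nonempty_iHomUnitIso (X := X) 0
  haveI : (iHom (oneCx X)).Full := Functor.Full.of_iso e.symm
  haveI : (iHom (oneCx X)).Faithful := Functor.Faithful.of_iso e.symm
  have h₃ : IsIso (((iHomAdj (oneCx X)).homEquiv J J).symm (sec J ≫ (iHomMap (ζ J)).app J)) := by
    rw [h, h₂, c₀]
    exact IsIso.comp_isIso' inferInstance inferInstance
  rw [Adjunction.homEquiv_counit] at h₃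
  haveI := h₃
  haveI : IsIso ((Inner.tenX (DCoh.tensorBi (X := X)) (oneCx X)).map (sec J ≫ (iHomMap (ζ J)).app J)) :=
    IsIso.of_isIso_comp_right _ ((iHomAdj (oneCx X)).counit.app J)
  exact (NatIso.isIso_map_iff tensorOneIso _).1 inferInstance

section Dualizing

variable [IsLocallyNoetherian X]
  [∀ (U : Scheme.{u}) (j : U ⟶ X) [IsOpenImmersion j], PreservesFiniteLimits (Scheme.Modules.restrictFunctor j)]
  [∀ (R : CommRingCat.{u}), PreservesFiniteLimits (tilde.functor R)]
  [J.IsKInjective] [∀ n, Injective (J.X n)]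
  {K : DCoh.D X} (hK : Dual2.IsDualizingSch X K) (eJ : K ≅ DerivedCategory.Q.obj J)

variable {J} in
/-- On a chart, `iHom(J, J)` is the structure sheaf. -/
theorem nonempty_rho_End {S : CommRingCat.{u}} [IsNoetherianRing S] (j : Spec S ⟶ X) [IsOpenImmersion j]
    {ω : Dual.D S} (hω : Dual.IsDualizing S ω) (e : DerivedCategory.Q.obj ((rCx j).obj J) ≅ (tD S).obj ω) :
    Nonempty (DerivedCategory.Q.obj ((rCx j).obj ((iHom J).obj J)) ≅
      DerivedCategory.Q.obj (oneCx (Spec S))) := by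
  let rJ := (rCx j).obj J
  haveI : rJ.IsKInjective := isKInjective_rCx j J
  haveI : ∀ n, Injective (rJ.X n) := injective_rCx j J
  haveI := hasLTensorCx rJ
  haveI := PerfGen7.hasRSheafHom rJ
  obtain ⟨e₀⟩ := nonempty_iHomRestrictIso j J
  obtain ⟨e₁⟩ := nonempty_RSheafHom_iso rJ rJ
  obtain ⟨e₂⟩ := DualizingModel.nonempty_RHom_self hω rJ e
  exact ⟨DerivedCategory.Q.mapIso (e₀.app J) ≪≫ e₁.symm ≪≫ (DCoh.RSheafHom rJ).mapIso e ≪≫ e₂ ≪≫
    (DerivedCategory.singleFunctorIsoCompQ (Spec S).Modules 0).app _⟩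

/-- `O` on a chart. -/
noncomputable def rCxOneIso {U : Scheme.{u}} (j : U ⟶ X) [IsOpenImmersion j] :
    (rCx j).obj (oneCx X) ≅ oneCx U :=
  (HomologicalComplex.singleMapHomologicalComplex (Scheme.Modules.restrictFunctor j) _ 0).app _ ≪≫
    (HomologicalComplex.single _ _ 0).mapIso (restrictStructureIso j)

include hK eJ in
/-- The homothety into a dualizing complex is invertible. -/
theorem quasiIso_ζ : QuasiIso (ζ J) := by
  let N := (iHom J).obj J
  have hchart : ∀ x : X, ∃ (S : CommRingCat.{u}) (_ : IsNoetherianRing S) (j : Spec S ⟶ X)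
      (_ : IsOpenImmersion j) (ω : Dual.D S), x ∈ Set.range j.base ∧ Dual.IsDualizing S ω ∧
        Nonempty (DerivedCategory.Q.obj ((rCx j).obj J) ≅ (tD S).obj ω) ∧
        Nonempty (DerivedCategory.Q.obj ((rCx j).obj N) ≅ DerivedCategory.Q.obj (oneCx (Spec S))) :=
    fun x => by
      obtain ⟨S, hS, j, hj, ω, hx, hω, ⟨e⟩⟩ := DualizingModel.exists_chart_dualizing hK x
      let e' : DerivedCategory.Q.obj ((rCx j).obj J) ≅ (tD S).obj ω :=
        ((rhoQ j).app J).symm ≪≫ (rho j).mapIso eJ.symm ≪≫ e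
      exact ⟨S, hS, j, hj, ω, hx, hω, ⟨e'⟩, nonempty_rho_End j hω e'⟩
  have hN : DCoh.IsPerfect (DCoh.toD X N) := (isPerfect_iff _).2 fun x => by
    obtain ⟨S, hS, j, hj, ω, hx, hω, -, ⟨e⟩⟩ := hchart x
    refine ⟨Spec S, j, hj, hx, _, isStrictlyPerfect_single 1, ⟨?_⟩⟩
    exact DerivedCategory.Q.mapIso ((HomologicalComplex.single _ _ 0).mapIso
      (coproductUniqueIso (fun _ : Fin 1 => Coh.structureModule (Spec S)))) ≪≫ e.symm ≪≫
        ((rhoQ j).app N).symm
  let R := (kRes X).obj N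
  let a : R ⟶ N := (flatCover X).ψ.app _
  haveI ha : QuasiIso a := (flatCover X).quasiIso_ψ _
  let c := ((iHomAdj J).homEquiv R J).symm a
  have hc : QuasiIso ((iHomAdj J).homEquiv R J c) := by
    rw [show (iHomAdj J).homEquiv R J c = a from Equiv.apply_symm_apply _ a]
    exact ha
  have hN' := quasiIso_coevalMap R J J c (isKFlat_kRes _) (isFlat_kRes _) hc N hN
  have hone := quasiIso_coevalMap_single R J J c hc 0
  refine quasiIso_of_local _ fun x => ?_
  obtain ⟨S, hS, j, hj, ω, hx, hω, ⟨eω⟩, ⟨eN⟩⟩ := hchart x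
  refine ⟨Spec S, j, hj, hx, ?_⟩
  -- the dual of the homothety is invertible on the chart
  have hd : QuasiIso ((rCx j).map ((iHomMap (ζ J)).app J)) := by
    let rJ := (rCx j).obj J
    haveI : rJ.IsKInjective := isKInjective_rCx j J
    haveI : ∀ n, Injective (rJ.X n) := injective_rCx j J
    obtain ⟨eU⟩ := nonempty_iHomUnitIso (X := X) 0
    let eB : DerivedCategory.Q.obj ((rCx j).obj ((iHom (oneCx X)).obj J)) ≅ (tD S).obj ω :=
      DerivedCategory.Q.mapIso ((rCx j).mapIso (eU.app J ≪≫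
        (shiftFunctorZero (CochainComplex X.Modules ℤ) ℤ).app J)) ≪≫ eω
    obtain ⟨eN'⟩ := nonempty_iHomRestrictIso j N
    obtain ⟨eO'⟩ := nonempty_iHomRestrictIso j (oneCx X)
    obtain ⟨e₃⟩ := nonempty_iHom_iso_of_iso (eN ≪≫ DerivedCategory.Q.mapIso (rCxOneIso j).symm) rJ
    let eA : DerivedCategory.Q.obj ((rCx j).obj ((iHom N).obj J)) ≅ (tD S).obj ω :=
      DerivedCategory.Q.mapIso (eN'.app J) ≪≫ e₃ ≪≫ (DerivedCategory.Q.mapIso (eO'.app J)).symm ≪≫ eB
    haveI : IsIso (DerivedCategory.Q.map ((rCx j).map (sec J)) ≫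
        DerivedCategory.Q.map ((rCx j).map ((iHomMap (ζ J)).app J))) := by
      haveI := isIso_sec_comp J
      rw [← Functor.map_comp, ← Functor.map_comp]
      infer_instance
    have := isIso_of_section eA eB (DualizingModel.comp_comm hω)
      (DerivedCategory.Q.map ((rCx j).map (sec J)))
      (DerivedCategory.Q.map ((rCx j).map ((iHomMap (ζ J)).app J)))
    exact (DerivedCategory.isIso_Q_map_iff_quasiIso _ _).1 this
  -- hence so is `R ⊗ ζ`
  have ht : QuasiIso ((rCx j).map ((DCoh.tensorCx.obj R).map (ζ J))) := by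
    haveI := hd
    haveI := quasiIso_rCx_iHomMap j ((iHomMap (ζ J)).app J) J
    haveI := hN'
    haveI := hone
    have w := congrArg (fun t => (rCx j).map t) (coevalMap_naturality R J J c (ζ J))
    simp only [Functor.map_comp] at w
    haveI : QuasiIso ((rCx j).map ((DCoh.tensorCx.obj R).map (ζ J)) ≫
        (rCx j).map (coevalMap R J J c N)) := by
      rw [w]
      infer_instance
    exact quasiIso_of_comp_right _ ((rCx j).map (coevalMap R J J c N))
  -- and `R` is the structure sheaf on the chart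
  obtain ⟨e, heq, he, hf⟩ := embed_fac (j := j) (ζ J)
  haveI := heq
  haveI := he
  have hX₃ : ((rCx j).obj (embedConeSeq (ζ J)).X₃).Acyclic := by
    haveI := ht
    let C := (embedConeSeq (ζ J)).X₃
    haveI : QuasiIso ((DCoh.tensorCx.obj R).map e) :=
      (kFlat_iff_isKFlat.2 (isKFlat_kRes N)).quasiIso_map' (tensorBiFlipIso X) e
    have hembed : ∀ q, IsIso (HomologicalComplex.homologyMap
        ((rCx j).map ((DCoh.tensorCx.obj R).map (embedCone (ζ J)))) q) := fun q => by
      haveI : IsIso (HomologicalComplex.homologyMap ((rCx j).map ((DCoh.tensorCx.obj R).map e)) q) :=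
        isoAt_of_quasiIso j _ q
      have := isoAt_of_quasiIso j ((DCoh.tensorCx.obj R).map (ζ J)) q
      rw [IsoAt, hf, Functor.map_comp, Functor.map_comp] at this
      exact (isIso_homologyMap_comp_right_iff _ _ q).1 this
    have hz : ((rCx j).obj ((DCoh.tensorCx.obj R).obj C)).Acyclic := (acyclic_iff_isZero _).2 fun q =>
      isZero_X₃_of_isIso ((shortExact_tensorCx_of_flat R (isFlat_kRes N)
        (embedConeSeq_shortExact (ζ J))).map_of_exact (rCx j)) q (hembed q) (hembed (q + 1))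
    let C' := (rCx j).obj C
    let R' := (rCx j).obj R
    haveI := hasLTensorCx C'
    let eR : DerivedCategory.Q.obj R' ≅ DCoh.toD (Spec S) (oneCx (Spec S)) :=
      DerivedCategory.Q.mapIso (Iso.refl R') ≪≫
        (haveI : QuasiIso ((rCx j).map a) := inferInstance
         haveI : IsIso (DerivedCategory.Q.map ((rCx j).map a)) :=
           (DerivedCategory.isIso_Q_map_iff_quasiIso _ _).2 inferInstance
         asIso (DerivedCategory.Q.map ((rCx j).map a))) ≪≫ eN
    obtain ⟨eu⟩ := PerfGen7.nonempty_ltensor_unit C'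
    rw [acyclic_iff_isZero] at hz ⊢
    intro q
    exact (hz q).of_iso (((DerivedCategory.homologyFunctorFactors (Spec S).Modules q).app C').symm ≪≫
      (DerivedCategory.homologyFunctor (Spec S).Modules q).mapIso
        (eu.symm ≪≫ (DCoh.LTensorCx C').mapIso eR.symm ≪≫ ltensorCxIso C' (isKFlat_restrict j (isKFlat_kRes _))) ≪≫
      (DerivedCategory.homologyFunctorFactors (Spec S).Modules q).app _ ≪≫
      (HomologicalComplex.homologyFunctor (Spec S).Modules (ComplexShape.up ℤ) q).mapIso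
        (totalMapIso (restrictTensorBiIso j) R C))
  haveI : QuasiIso ((rCx j).map (embedCone (ζ J))) :=
    quasiIso_f_of_acyclic ((embedConeSeq_shortExact (ζ J)).map_of_exact (rCx j)) hX₃
  rw [hf, Functor.map_comp]
  infer_instance

end Dualizing

end Groth.Agent.RHomO7.Biduality
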