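import Groth.Agent.RHomO7.Biduality

/-!
# `D_Coh` is preserved by duality into a dualizing complex, and biduality
-/

set_option linter.style.haveILetI false
set_option backward.isDefEq.respectTransparency false
set_option maxHeartbeats 800000

universe u

open CategoryTheory CategoryTheory.Limits AlgebraicGeometry

attribute [local instance] HasDerivedCategory.standard

namespace Groth.Agent.RHomO7.Biduality

open Groth.Agent.KFlatLib LocalAmp AffineDuality

variable {X : Scheme.{u}}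

lemma isoAt_of_isIso {U : Scheme.{u}} (j : U ⟶ X) [IsOpenImmersion j] {A B : CochainComplex X.Modules ℤ}
    (f : A ⟶ B) (q : ℤ) (h : IsIso (HomologicalComplex.homologyMap f q)) : IsoAt j f q :=
  (NatIso.isIso_map_iff (ShortComplex.homologyFunctorIso (Scheme.Modules.restrictFunctor j))
      ((HomologicalComplex.shortComplexFunctor X.Modules (ComplexShape.up ℤ) q).map f)).2
    (haveI := h; inferInstanceAs (IsIso ((Scheme.Modules.restrictFunctor j).map
      (HomologicalComplex.homologyMap f q))))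

lemma isZero_rCx_one {U : Scheme.{u}} (j : U ⟶ X) [IsOpenImmersion j] (q : ℤ) (hq : 0 < q) :
    IsZero (((rCx j).obj (oneCx X)).homology q) :=
  (((rCx j).obj (oneCx X)).exactAt_iff_isZero_homology q).1 (HomologicalComplex.ExactAt.of_isZero
    (Functor.map_isZero (Scheme.Modules.restrictFunctor j)
      (HomologicalComplex.isZero_single_obj_X _ _ _ _ (by omega))))

variable [IsLocallyNoetherian X]
  [∀ (U : Scheme.{u}) (j : U ⟶ X) [IsOpenImmersion j], PreservesFiniteLimits (Scheme.Modules.restrictFunctor j)]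
  [∀ (R : CommRingCat.{u}), PreservesFiniteLimits (tilde.functor R)]
  {K : DCoh.D X} (hK : Dual2.IsDualizingSch X K)

include hK in
/-- `RHom(L, K)` has coherent cohomology. -/
theorem isCohD_RHom (L : CochainComplex X.Modules ℤ) (hL : DCoh.IsCohD (DCoh.toD X L))
    [DCoh.HasLTensorCx L] [DCoh.HasRSheafHom L] : DCoh.IsCohD ((DCoh.RSheafHom L).obj K) := fun i => by
  obtain ⟨J, hJ, hJi, ⟨eJ⟩⟩ := exists_kInjective_rep K
  obtain ⟨eH⟩ := nonempty_RSheafHom_iso L J
  refine isCoh_of_local fun x => ?_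
  obtain ⟨S, hS, j, hj, ω, hx, hω, ⟨e⟩⟩ := DualizingModel.exists_chart_dualizing hK x
  haveI := hS
  refine ⟨Spec S, j, hj, hx, ?_⟩
  haveI : IsLocallyNoetherian (Spec S) := isLocallyNoetherian_of_isOpenImmersion j
  let rL := (rCx j).obj L
  let rJ := (rCx j).obj J
  haveI : rJ.IsKInjective := isKInjective_rCx j J
  haveI : ∀ n, Injective (rJ.X n) := injective_rCx j J
  haveI := hasLTensorCx rL
  haveI := PerfGen7.hasRSheafHom rL
  obtain ⟨e₀⟩ := nonempty_iHomRestrictIso j L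
  obtain ⟨e₁⟩ := nonempty_RSheafHom_iso rL rJ
  obtain ⟨J', a, b, hinj, ha, hb, ⟨eω⟩⟩ := DualizingModel.exists_model hω
  have hrL : DCoh.IsCohD (DCoh.toD (Spec S) rL) :=
    isCohD_of_iso ((rhoQ j).app L) (isCohD_rho j hL)
  have hJ' : DCoh.IsCohD (DerivedCategory.Q.obj J') :=
    isCohD_of_iso eω (DualizingModel.isCohD_tilde hω.finite_cohomology)
  let eJ' : DerivedCategory.Q.obj rJ ≅ DerivedCategory.Q.obj J' :=
    ((rhoQ j).app J).symm ≪≫ (rho j).mapIso eJ.symm ≪≫ e ≪≫ eω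
  let φ : (rho j).obj ((DCoh.RSheafHom L).obj K) ≅ (DCoh.RSheafHom rL).obj (DerivedCategory.Q.obj J') :=
    (rho j).mapIso ((DCoh.RSheafHom L).mapIso eJ ≪≫ eH) ≪≫ (rhoQ j).app _ ≪≫
      DerivedCategory.Q.mapIso (e₀.app J) ≪≫ e₁.symm ≪≫ (DCoh.RSheafHom rL).mapIso eJ'
  haveI := hinj
  exact isCoh_of_iso (restrictHDIso j _ i)
    (isCohD_of_iso φ.symm (BoundedInj.isCohD_RSheafHom rL hrL J' a b hJ') i)

include hK in
/-- Evaluation `L → RHom(RHom(L, K), K)` is invertible. -/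
theorem quasiIso_coeval (J : CochainComplex X.Modules ℤ) [J.IsKInjective] [∀ n, Injective (J.X n)]
    (eJ : K ≅ DerivedCategory.Q.obj J) (L : CochainComplex X.Modules ℤ)
    (hL : DCoh.IsCohD (DCoh.toD X L)) : QuasiIso (coevalMap (oneCx X) J J (c₀ J) L) := by
  have hc : QuasiIso ((iHomAdj J).homEquiv (oneCx X) J (c₀ J)) := quasiIso_ζ J hK eJ
  have hamp : ∀ x : X, ∃ (V : X.Opens) (a b a' b' r : ℤ), x ∈ V ∧ AmpOn V (oneCx X) J J a b a' b' r :=
    fun x => by
      obtain ⟨V, a, b, hx, hV⟩ := DualizingModel.exists_locInj hK J eJ x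
      exact ⟨V, a, b, a, b, 0, hx, ⟨hV, hV, fun U j _ _ q hq => isZero_rCx_one j q hq⟩⟩
  refine ⟨fun i => ?_⟩
  rw [quasiIsoAt_iff_isIso_homologyMap]
  refine isIso_homologyMap_of_local _ i fun x => ?_
  obtain ⟨V, a, b, hx, hV⟩ := DualizingModel.exists_locInj hK J eJ x
  refine ⟨V, V.ι, inferInstance, ⟨⟨x, hx⟩, rfl⟩, ?_⟩
  have hVr : Set.range V.ι.base ⊆ (V : Set X) := by
    rintro _ ⟨w, rfl⟩
    exact w.2
  let m : ℤ := max i (i + b + 2 - a)
  let T := L.truncLE m
  let g : T ⟶ L := L.ιTruncLE m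
  have hg : ∀ q, q ≤ m → IsoAt V.ι g q := fun q hq => isoAt_of_isIso V.ι g q <| by
    haveI := CochainComplex.quasiIsoAt_ιTruncLE L m q hq
    infer_instance
  have hTc : DCoh.IsCohD (DCoh.toD X T) := fun q => by
    by_cases hq : q ≤ m
    · haveI := CochainComplex.quasiIsoAt_ιTruncLE L m q hq
      exact isCoh_of_iso ((DerivedCategory.homologyFunctorFactors X.Modules q).app T ≪≫
        asIso (HomologicalComplex.homologyMap g q) ≪≫
        ((DerivedCategory.homologyFunctorFactors X.Modules q).app L).symm).symm (hL q)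
    · exact isCoh_of_isZero ((DerivedCategory.Q.obj T).isZero_of_isLE m q (by omega))
  have hpc : ∀ k, DCoh.IsPseudoCoherentD k (DCoh.toD X T) := fun k =>
    (isPseudoCoherentD_iff _ _).2 (locPC_of_coh (isCohD_isQCohD hTc) (fun q _ => hTc q) m
      fun q hq => (DerivedCategory.Q.obj T).isZero_of_isLE m q hq)
  have hT := quasiIso_coevalMap_of_pc (oneCx X) J J (c₀ J) PerfGen7.isKFlat_degZero_structure
    (isFlat_single 0 isFlat_structureModule) hc T hpc hamp
  haveI := hT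
  refine (isoAt_coeval_iff (oneCx X) J J (c₀ J) g i ((isoAt_oneTensor V.ι g i).2 (hg i (le_max_left _ _)))
    ((hV _ V.ι hVr).isoAt_low _ (b + 1 - m)
      (fun q hq => (hV _ V.ι hVr).isoAt_high g m hg q (by omega)) i (by omega))).1 ?_
  exact isoAt_of_quasiIso V.ι _ i

include hK in
/-- Biduality. -/
theorem nonempty_biduality (L : CochainComplex X.Modules ℤ) (hL : DCoh.IsCohD (DCoh.toD X L))
    [DCoh.HasLTensorCx L] [DCoh.HasRSheafHom L] (M : CochainComplex X.Modules ℤ)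
    [DCoh.HasLTensorCx M] [DCoh.HasRSheafHom M] (eM : DCoh.toD X M ≅ (DCoh.RSheafHom L).obj K) :
    Nonempty ((DCoh.RSheafHom M).obj K ≅ DCoh.toD X L) := by
  obtain ⟨J, hJ, hJi, ⟨eJ⟩⟩ := exists_kInjective_rep K
  obtain ⟨eH⟩ := nonempty_RSheafHom_iso L J
  obtain ⟨eMJ⟩ := nonempty_RSheafHom_iso M J
  obtain ⟨eDD⟩ := nonempty_iHom_iso_of_iso (eM ≪≫ (DCoh.RSheafHom L).mapIso eJ ≪≫ eH) J
  haveI := isIso_Q_map _ (quasiIso_coeval hK J eJ L hL)
  exact ⟨(DCoh.RSheafHom M).mapIso eJ ≪≫ eMJ ≪≫ eDD ≪≫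
    (asIso (DerivedCategory.Q.map (coevalMap (oneCx X) J J (c₀ J) L))).symm ≪≫
    DerivedCategory.Q.mapIso (oneTensorIso.app L)⟩

end Groth.Agent.RHomO7.Biduality
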