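import Groth.Agent.RHomO7.Rows
import Groth.Agent.ExtShX.Divisor
import Groth.Agent.TriCat.RightDerivedBridge
import Groth.Agent.SiteBase.DerivedComp
import Groth.Agent.SiteBase.Rpush

/-!
# Cohomology of `RHom(O_Z, -)` of a module, and the case of effective Cartier divisors
-/

set_option linter.style.haveILetI false
set_option backward.isDefEq.respectTransparency false
set_option backward.isDefEq.respectTransparency.types false

universe u

open CategoryTheory CategoryTheory.Limits AlgebraicGeometry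

attribute [local instance] HasDerivedCategory.standard

namespace Groth.Agent.RHomO7

section

variable {Z X : Scheme.{u}} (i : Z ⟶ X) [IsClosedImmersion i] [Dual3.HasHomO i] [EnoughInjectives X.Modules]
  [PreservesFiniteLimits (Scheme.Modules.pushforward i)] [PreservesFiniteColimits (Scheme.Modules.pushforward i)]
  [ModSite.HasSheafHom (O := X.sheaf) (pushO i)] [HasInjectiveResolutions (ModSite.Mod X.sheaf)]

/-- `i_* H^n RHom(O_Z, F) = Ext^n(i_* O_Z, F)` for a module `F`. -/
theorem nonempty_push_HD (F : X.Modules) (O : DerivedCategory.Plus X.Modules)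
    (hO : Nonempty (O.obj ≅ DCoh.inD X F)) (n : ℕ) :
    Nonempty ((Scheme.Modules.pushforward i).obj (DCoh.HD ((Dual3.RHomOPlus i).obj O).obj (n : ℤ)) ≅
      (ModSite.extSh (O := X.sheaf) (pushO i) n).obj F) := by
  obtain ⟨e⟩ := hO
  let S : DerivedCategory.Plus X.Modules :=
    DerivedCategory.Plus.Qh.obj ((HomotopyCategory.Plus.quotient X.Modules).obj (TriCat.singlePlusFunctor.obj F))
  let eS : O ≅ S := DerivedCategory.Plus.ι.preimageIso (e ≪≫
    (DerivedCategory.singleFunctorIsoCompQ X.Modules 0).app F ≪≫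
    ((DerivedCategory.quotientCompQhIso X.Modules).app _).symm)
  let c : pushHomO i ≅ ExtShX.SH (pushO i) :=
    (tensorPushAdj i).rightAdjointUniq (ModSite.sheafHomAdj (O := X.sheaf) (pushO i))
  haveI : (ExtShX.SH (pushO i)).Additive := ModSite.sheafHom_additive X.sheaf (pushO i)
  exact ⟨(Scheme.Modules.pushforward i).mapIso
      ((Dual3.RHomOPlus i ⋙ DerivedCategory.Plus.ι ⋙ DerivedCategory.homologyFunctor Z.Modules (n : ℤ)).mapIso eS ≪≫
        (TriCat.derivedCohIso (Dual3.homO i) n).app F) ≪≫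
    ((SiteBase.rightDerivedCompIso (Dual3.homO i) (Scheme.Modules.pushforward i) n).app F).symm ≪≫
    (SiteBase.rightDerivedCongr c n).app F⟩

end

section

variable {X : Scheme.{u}}

open ExtShX

/-- For an invertible ideal, `Ext^n(O/I, O) = 0` for `n ≠ 1`. -/
theorem isZero_extSh_of_ne_one {Q I L : X.Modules} (ι : I ⟶ Coh.structureModule X)
    (π : Coh.structureModule X ⟶ Q) (w : ι ≫ π = 0) (hS : (ShortComplex.mk ι π w).ShortExact)
    (e : CohB1.tensorMod L I ≅ Coh.structureModule X)
    [ModSite.HasSheafHom (O := X.sheaf) Q] [HasInjectiveResolutions (ModSite.Mod X.sheaf)] (q : ℕ) (hq : q ≠ 1) :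
    IsZero ((ModSite.extSh (O := X.sheaf) Q q).obj (Coh.structureModule X)) := by
  let ω := Coh.structureModule X
  let E := twoCx ι
  haveI hsh : ∀ j, ModSite.HasSheafHom (O := X.sheaf) (E.X j) := fun j => ⟨_, ⟨SheafHomX.adj (E.X j)⟩⟩
  have hI : PicF.IsInvertible I := S2122.result I L (tensorSwap I L ≪≫ e)
  have hz : ∀ j, IsZero (E.X (j + 2)) := fun j => isZero_zero _
  have hE : ∀ j, FlatMod.IsFinLocFree (E.X j) := fun j => match j with
    | 0 => KZ.QuasiProj.flf_of_invertible (S2122.result _ _ (tensorOneIso (Coh.structureModule X)))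
    | 1 => KZ.QuasiProj.flf_of_invertible hI
    | n + 2 => KFlatLib.isFinLocFree_of_isZero (hz n)
  have hex : ∀ j : ℕ, E.ExactAt (j + 1) := by
    intro j
    rw [HomologicalComplex.exactAt_iff' _ (j + 2) (j + 1) j (by simp) (by simp)]
    cases j with
    | succ n => exact ShortComplex.exact_of_isZero_X₂ _ (hz n)
    | zero =>
      refine (ShortComplex.exact_iff_mono _ ((hz 0).eq_of_src _ _)).2 ?_
      show Mono ((twoCx ι).d 1 0)
      rw [twoCx_d]; exact hS.mono_f
  have hd : E.d 1 0 = ι := twoCx_d ι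
  have hπ : E.d 1 0 ≫ π = 0 := by rw [hd]; exact w
  haveI : Epi π := hS.epi_g
  have hex0 : (ShortComplex.mk (E.d 1 0) π hπ).Exact :=
    (ShortComplex.exact_iff_of_iso (ShortComplex.isoMk (S₁ := ShortComplex.mk (E.d 1 0) π hπ)
      (S₂ := ShortComplex.mk ι π w) (Iso.refl _) (Iso.refl _) (Iso.refl _)
      (by simp only [Iso.refl_hom]; exact (Category.id_comp _).trans ((hd.symm).trans (Category.comp_id _).symm))
      (by simp only [Iso.refl_hom]; exact (Category.id_comp _).trans (Category.comp_id _).symm))).2 hS.exact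
  obtain ⟨h₁⟩ := nonempty_homology_homCx E π hπ hex0 hex hE q ω
  refine IsZero.of_iso ?_ h₁.symm
  let K := homCx E ω
  show IsZero (K.homology q)
  rw [← HomologicalComplex.exactAt_iff_isZero_homology]
  match q, hq with
  | n + 2, _ =>
    rw [HomologicalComplex.exactAt_iff' K (n + 1) (n + 2) (n + 3) (by simp) (by simp)]
    refine ShortComplex.exact_of_isZero_X₂ _ ((IsZero.iff_id_eq_zero _).2 ?_)
    apply mate.injective
    haveI : (DCoh.tensorBi.obj ((SH (E.X (n + 2))).obj ω) : X.Modules ⥤ X.Modules).Additive := inferInstance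
    exact ((DCoh.tensorBi.obj ((SH (E.X (n + 2))).obj ω)).map_isZero (hz n)).eq_of_src _ _
  | 0, _ =>
    rw [HomologicalComplex.exactAt_iff' K 0 0 1 (by simp) (by simp)]
    refine (ShortComplex.exact_iff_mono _ (K.shape 0 0 (by simp))).2 ?_
    show Mono (K.d 0 1)
    rw [show K.d 0 1 = (shMap (E.d 1 0)).app ω from homCx_d E ω 0]
    let TI : X.Modules ⥤ X.Modules := DCoh.tensorBi.flip.obj (E.X 1)
    let a : TI ⊣ SH (E.X 1) := ModSite.sheafHomAdj (O := X.sheaf) (E.X 1)
    let b : DCoh.tensorBi.flip.obj (E.X 0) ⊣ SH (E.X 0) := ModSite.sheafHomAdj (O := X.sheaf) (E.X 0)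
    haveI hTI : TI.IsEquivalence := isEquivalence_tensor (I := E.X 1) (L := L) e
    haveI hTO : (DCoh.tensorBi.flip.obj (E.X 0) : X.Modules ⥤ X.Modules).IsEquivalence :=
      Functor.isEquivalence_of_iso (KFlatLib.tensorStructureIso X).symm
    haveI : (SH (E.X 1)).IsEquivalence := a.isEquivalence_right_of_isEquivalence_left
    haveI : (SH (E.X 0)).IsEquivalence := b.isEquivalence_right_of_isEquivalence_left
    let Z₀ := (SH (E.X 0)).obj ω
    let z : Z₀ ≅ ω := (tensorOneIso Z₀).symm ≪≫ asIso (b.counit.app ω)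
    let TZ : X.Modules ⥤ X.Modules := DCoh.tensorBi.obj Z₀
    haveI : TZ.IsEquivalence :=
      Functor.isEquivalence_of_iso (DCoh.tensorBi.mapIso z ≪≫
        ((KFlatLib.tensorBiFlipIso X).app ω).symm ≪≫ KFlatLib.tensorStructureIso X).symm
    have key : TI.map ((shMap (E.d 1 0)).app ω) ≫ a.counit.app ω = TZ.map (E.d 1 0) ≫ b.counit.app ω :=
      shMap_counit (E.d 1 0) ω
    haveI : Mono (E.d 1 0) := by rw [hd]; exact hS.mono_f
    haveI : Mono (TI.map ((shMap (E.d 1 0)).app ω) ≫ a.counit.app ω) := by rw [key]; infer_instance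
    haveI : Mono (TI.map ((shMap (E.d 1 0)).app ω)) := mono_of_mono _ (a.counit.app ω)
    exact TI.mono_of_mono_map this

end

end Groth.Agent.RHomO7

namespace Groth.Agent.RHomO7

open ExtShX in
/-- `RHom(O_D, O_X) = N[-1]` for an effective Cartier divisor (given by an invertible ideal). -/
theorem cartier {X : Scheme.{u}} (I : X.IdealSheafData) [Dual3.HasHomO I.subschemeι] [EnoughInjectives X.Modules]
    [PreservesFiniteLimits (Scheme.Modules.pushforward I.subschemeι)]
    [PreservesFiniteColimits (Scheme.Modules.pushforward I.subschemeι)]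
    [HasInjectiveResolutions (ModSite.Mod X.sheaf)]
    (L : X.Modules) (hL : ClSub.IsInverseOf L (ClSub.idealMod I)) (O : DerivedCategory.Plus X.Modules)
    (hO : Nonempty (O.obj ≅ DCoh.inD X (Coh.structureModule X))) :
    (∀ j : ℤ, j ≠ 1 → IsZero (DCoh.HD ((Dual3.RHomOPlus I.subschemeι).obj O).obj j)) ∧
      Nonempty (DCoh.HD ((Dual3.RHomOPlus I.subschemeι).obj O).obj 1 ≅
        (Scheme.Modules.pullback I.subschemeι).obj L) := by
  let i := I.subschemeι
  haveI : ModSite.HasSheafHom (O := X.sheaf) (pushO i) := ⟨_, ⟨SheafHomX.adj (pushO i)⟩⟩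
  obtain ⟨e⟩ := hL
  obtain ⟨eO⟩ := hO
  let w : ClSub.idealModι I ≫ ClSub.toSubscheme I = 0 := kernel.condition _
  have hS := IntSym.shortExact_toSubscheme I
  haveI := ClosedPush.full_push i
  haveI := AmpleVan.faithful_push i
  refine ⟨fun j hj => ?_, ?_⟩
  · by_cases hneg : j < 0
    · haveI : O.obj.IsGE 0 := DerivedCategory.TStructure.t.isGE_of_iso eO.symm 0
      haveI : O.IsGE 0 := (DerivedCategory.Plus.isGE_ι_obj_iff O 0).1 ‹_›
      obtain ⟨L', hL', ⟨eL'⟩⟩ := DerivedCategory.Plus.exists_injective_nonempty_iso O 0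
      let e' := (Dual3.homO i).rightDerivedFunctorPlus.mapIso eL'.symm ≪≫
        (TriCat.rightDerivedPlusIso X.Modules (Dual3.homO i)).app
          ((HomotopyCategory.Plus.quotient (InjectiveObject X.Modules)).obj L')
      let G := ((Dual3.homO i).mapHomologicalComplex (ComplexShape.up ℤ)).obj
        (((InjectiveObject.ι X.Modules).mapHomologicalComplex (ComplexShape.up ℤ)).obj L'.obj)
      haveI : (DerivedCategory.Q.obj G).IsGE 0 := inferInstance
      haveI : ((Dual3.RHomOPlus i).obj O).obj.IsGE 0 :=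
        DerivedCategory.TStructure.t.isGE_of_iso
          (((DerivedCategory.quotientCompQhIso _).app G).symm ≪≫ DerivedCategory.Plus.ι.mapIso e'.symm) 0
      exact DerivedCategory.isZero_of_isGE _ 0 j hneg
    · obtain ⟨n, rfl⟩ := Int.eq_ofNat_of_zero_le (show 0 ≤ j by omega)
      obtain ⟨h⟩ := nonempty_push_HD i _ O ⟨eO⟩ n
      have hz := (isZero_extSh_of_ne_one (ClSub.idealModι I) (ClSub.toSubscheme I) w hS e n
        (fun hn => hj (by subst hn; rfl))).of_iso h
      exact (IsZero.iff_id_eq_zero _).2 ((Scheme.Modules.pushforward i).map_injective (hz.eq_of_src _ _))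
  · obtain ⟨h⟩ := nonempty_push_HD i _ O ⟨eO⟩ 1
    obtain ⟨h'⟩ := nonempty_extSh_one_iso (ClSub.idealModι I) (ClSub.toSubscheme I) w hS e (Coh.structureModule X)
    exact ⟨(Scheme.Modules.pushforward i).preimageIso (h ≪≫ h' ≪≫
      (DCoh.tensorBi.obj (pushO i)).mapIso (tensorOneIso L) ≪≫ tensorSwap (pushO i) L ≪≫
      (tensorPushIso i).app L)⟩

end Groth.Agent.RHomO7
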