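import Groth.Agent.RHomO7.LocalAmp

/-!
# `R ⊗ K ⟶ iHom(iHom(K, L), I)` at pseudo-coherent complexes
-/

set_option linter.style.haveILetI false
set_option backward.isDefEq.respectTransparency false

universe u

open CategoryTheory CategoryTheory.Limits AlgebraicGeometry TopologicalSpace

attribute [local instance] HasDerivedCategory.standard

namespace Groth.Agent.RHomO7.LocalAmp

open Groth.Agent.KFlatLib

variable {X : Scheme.{u}}

/-- Being an isomorphism on cohomology in one degree is local. -/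
theorem isIso_homologyMap_of_local {A B : CochainComplex X.Modules ℤ} (φ : A ⟶ B) (i : ℤ)
    (h : ∀ x : X, ∃ (U : Scheme.{u}) (j : U ⟶ X) (_ : IsOpenImmersion j),
      x ∈ Set.range j.base ∧ IsoAt j φ i) : IsIso (HomologicalComplex.homologyMap φ i) := by
  refine isIso_of_stalk _ fun x => ?_
  obtain ⟨U, j, hj, ⟨v, rfl⟩, hq⟩ := h x
  have hi : IsIso ((Scheme.Modules.restrictFunctor j).map (HomologicalComplex.homologyMap φ i)) :=
    (NatIso.isIso_map_iff (ShortComplex.homologyFunctorIso (Scheme.Modules.restrictFunctor j))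
      ((HomologicalComplex.shortComplexFunctor X.Modules (ComplexShape.up ℤ) i).map φ)).1 hq
  have hb := ConcreteCategory.bijective_of_isIso ((DerSch.stalkFunctor U v).map
    ((Scheme.Modules.restrictFunctor j).map (HomologicalComplex.homologyMap φ i)))
  exact (ConcreteCategory.isIso_iff_bijective _).2
    ⟨injective_stalk_of_restrict j _ v hb.1, surjective_stalk_of_restrict j _ v hb.2⟩

variable {U : Scheme.{u}} (j : U ⟶ X) [IsOpenImmersion j]
  (R L I : CochainComplex X.Modules ℤ) (c : (DCoh.tensorCx.obj R).obj L ⟶ I)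

/-- The coevaluation map at the extension by zero of a bounded complex of free modules. -/
theorem quasiIso_rCx_coeval_lsh (hR : DCoh.IsKFlat R) (hR' : ∀ p, FlatMod.IsFlat (R.X p))
    [∀ n, Injective (L.X n)] [L.IsKInjective] [∀ n, Injective (I.X n)] [I.IsKInjective]
    (hc : QuasiIso ((iHomAdj L).homEquiv _ _ c)) (P : CochainComplex U.Modules ℤ) (lo hi : ℤ)
    (hb : ∀ k, k < lo ∨ hi < k → IsZero (P.X k))
    (hP : ∀ k, ∃ n, Nonempty (P.X k ≅ FlatMod.freeMod U n)) :
    QuasiIso ((rCx j).map (coevalMap R L I c ((lshCx j).obj P))) := by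
  let Φ : ObjectProperty (CochainComplex X.Modules ℤ) := fun P => QuasiIso ((rCx j).map (coevalMap R L I c P))
  have hq : ∀ ⦃A B : CochainComplex X.Modules ℤ⦄ (g : A ⟶ B),
      QuasiIso ((rCx j).map g) → (Φ A ↔ Φ B) := by
    intro A B g hg
    haveI := hg
    haveI := quasiIso_rCx_tensor j hR g
    haveI := quasiIso_rCx_iHomMap j g L
    haveI := quasiIso_rCx_iHomMap j ((iHomMap g).app L) I
    have w := congrArg (fun t => (rCx j).map t) (coevalMap_naturality R L I c g)
    simp only [Functor.map_comp] at w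
    change QuasiIso ((rCx j).map (coevalMap R L I c A)) ↔ QuasiIso ((rCx j).map (coevalMap R L I c B))
    rw [← quasiIso_iff_comp_right ((rCx j).map (coevalMap R L I c A))
        ((rCx j).map ((iHomMap ((iHomMap g).app L)).app I)), ← w, quasiIso_iff_comp_left]
  haveI : Φ.IsClosedUnderIsomorphisms := ⟨fun {A B} e h =>
    (hq e.hom (haveI : IsIso ((rCx j).map e.hom) := inferInstance; inferInstance)).1 h⟩
  let Ψ : ObjectProperty (CochainComplex U.Modules ℤ) := fun C => Φ ((lshCx j).obj C)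
  haveI : Ψ.IsClosedUnderIsomorphisms := ⟨fun e h => Φ.prop_of_iso ((lshCx j).mapIso e) h⟩
  have h0 : ∀ P, IsZero P → Φ P := fun P hP => quasiIso_of_isZero _
    ((rCx j).map_isZero ((DCoh.tensorCx.obj R).map_isZero hP))
    ((rCx j).map_isZero (isZero_iHom (isZero_iHom hP L) I))
  have h2 : ∀ S : ShortComplex (CochainComplex X.Modules ℤ),
      (∀ n, Nonempty (S.map (HomologicalComplex.eval _ _ n)).Splitting) →
        (∀ i, FlatMod.IsFlat (S.X₃.X i)) → Φ S.X₁ → Φ S.X₃ → Φ S.X₂ := by
    intro S hS hF hl hr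
    obtain ⟨w₁, hH⟩ := Inner.innerHom_shortExact (DCoh.tensorBi (X := X)) S hS L
    let T := ShortComplex.mk ((iHomMap S.g).app L) ((iHomMap S.f).app L) w₁
    haveI : ∀ n, Injective (T.X₁.X n) := fun n =>
      Inner.injective_innerHom_X (DCoh.tensorBi (X := X)) S.X₃ (fun q => flatObj_of_isFlat (hF q)) L n
    obtain ⟨w₂, hJ⟩ := Inner.innerHom_shortExact (DCoh.tensorBi (X := X)) T
      (fun n => haveI : Injective ((T.map (HomologicalComplex.eval X.Modules (ComplexShape.up ℤ) n)).X₁) :=
          inferInstanceAs (Injective (T.X₁.X n))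
        ⟨splittingOfInjective (hH.map_of_exact (HomologicalComplex.eval _ _ n))⟩) I
    let T₁ := S.map (DCoh.tensorBi.map₂CochainComplex.obj R)
    have hS' : S.ShortExact := HomologicalComplex.shortExact_of_degreewise_shortExact S
      fun n => (hS n).some.shortExact
    let T₂ := ShortComplex.mk ((iHomMap T.g).app I) ((iHomMap T.f).app I) w₂
    let φ : T₁.map (rCx j) ⟶ T₂.map (rCx j) :=
      { τ₁ := (rCx j).map (coevalMap R L I c S.X₁)
        τ₂ := (rCx j).map (coevalMap R L I c S.X₂)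
        τ₃ := (rCx j).map (coevalMap R L I c S.X₃)
        comm₁₂ := by
          refine ((rCx j).map_comp _ _).symm.trans (Eq.trans ?_ ((rCx j).map_comp _ _))
          exact congrArg _ (coevalMap_naturality R L I c S.f).symm
        comm₂₃ := by
          refine ((rCx j).map_comp _ _).symm.trans (Eq.trans ?_ ((rCx j).map_comp _ _))
          exact congrArg _ (coevalMap_naturality R L I c S.g).symm }
    exact quasiIso_τ₂' φ ((shortExact_tensorCx_of_flat R hR' hS').map_of_exact _)
      (hJ.map_of_exact _) hl hr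
  refine cx_devissage Ψ (fun C hC => h0 _ (Functor.map_isZero _ hC))
    (fun S hS hF h₁ h₃ => h2 (S.map (lshCx j)) (fun n => ⟨((hS n).some.map (lsh j))⟩)
      (fun i => isFlat_lsh j (hF i)) h₁ h₃)
    (fun n => ?_) lo ((hi + 1 - lo).toNat) P (fun k hk => hb k (by omega)) hP
  let e₁ : (rCx j).obj ((HomologicalComplex.single X.Modules (ComplexShape.up ℤ) n).obj
      (Coh.structureModule X)) ≅
      (HomologicalComplex.single U.Modules (ComplexShape.up ℤ) n).obj (Coh.structureModule U) :=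
    (HomologicalComplex.singleMapHomologicalComplex (Scheme.Modules.restrictFunctor j) _ n).app _ ≪≫
      (HomologicalComplex.single _ _ n).mapIso (restrictStructureIso j)
  haveI := quasiIso_coevalMap_single R L I c hc n
  exact Φ.prop_of_iso ((lshCx j).mapIso e₁)
    ((hq ((lshCxAdj j).counit.app _)
      (haveI := isIso_rCx_map_lshCx_counit j ((HomologicalComplex.single X.Modules (ComplexShape.up ℤ) n).obj
        (Coh.structureModule X)); inferInstance)).2 (inferInstanceAs (QuasiIso ((rCx j).map (coevalMap R L I c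
        ((HomologicalComplex.single X.Modules (ComplexShape.up ℤ) n).obj (Coh.structureModule X)))))))

variable {j}

/-- Invariance of `IsoAt` of the coevaluation map under maps invertible in the relevant degrees. -/
theorem isoAt_coeval_iff {A B : CochainComplex X.Modules ℤ} (g : A ⟶ B) (i : ℤ)
    (h₁ : IsoAt j ((DCoh.tensorCx.obj R).map g) i)
    (h₂ : IsoAt j ((iHomMap ((iHomMap g).app L)).app I) i) :
    IsoAt j (coevalMap R L I c A) i ↔ IsoAt j (coevalMap R L I c B) i := by
  haveI : IsIso (HomologicalComplex.homologyMap ((rCx j).map ((DCoh.tensorCx.obj R).map g)) i) := h₁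
  haveI : IsIso (HomologicalComplex.homologyMap ((rCx j).map ((iHomMap ((iHomMap g).app L)).app I)) i) := h₂
  have w := congrArg (fun t => (rCx j).map t) (coevalMap_naturality R L I c g)
  simp only [Functor.map_comp] at w
  change IsIso (HomologicalComplex.homologyMap ((rCx j).map (coevalMap R L I c A)) i) ↔
    IsIso (HomologicalComplex.homologyMap ((rCx j).map (coevalMap R L I c B)) i)
  rw [← isIso_homologyMap_comp_right_iff ((rCx j).map (coevalMap R L I c A))
    ((rCx j).map ((iHomMap ((iHomMap g).app L)).app I)) i, ← w, isIso_homologyMap_comp_left_iff]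

/-- Bounds making the truncation arguments work on every open inside `V`. -/
structure AmpOn (V : X.Opens) (R L I : CochainComplex X.Modules ℤ) (a b a' b' r : ℤ) : Prop where
  left : ∀ (U : Scheme.{u}) (j : U ⟶ X) [IsOpenImmersion j], Set.range j.base ⊆ (V : Set X) → LocInj j L a b
  right : ∀ (U : Scheme.{u}) (j : U ⟶ X) [IsOpenImmersion j], Set.range j.base ⊆ (V : Set X) → LocInj j I a' b'
  above : ∀ (U : Scheme.{u}) (j : U ⟶ X) [IsOpenImmersion j], Set.range j.base ⊆ (V : Set X) →
    ∀ q, r < q → IsZero (((rCx j).obj R).homology q)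

/-- The coevaluation map at a pseudo-coherent complex is a quasi-isomorphism. -/
theorem quasiIso_coevalMap_of_pc (hR : DCoh.IsKFlat R) (hR' : ∀ p, FlatMod.IsFlat (R.X p))
    [∀ n, Injective (L.X n)] [L.IsKInjective] [∀ n, Injective (I.X n)] [I.IsKInjective]
    (hc : QuasiIso ((iHomAdj L).homEquiv _ _ c)) (K : CochainComplex X.Modules ℤ)
    (hK : ∀ m, DCoh.IsPseudoCoherentD m (DCoh.toD X K))
    (hamp : ∀ x : X, ∃ (V : X.Opens) (a b a' b' r : ℤ), x ∈ V ∧ AmpOn V R L I a b a' b' r) :
    QuasiIso (coevalMap R L I c K) := by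
  refine ⟨fun i => ?_⟩
  rw [quasiIsoAt_iff_isIso_homologyMap]
  refine isIso_homologyMap_of_local _ i fun x => ?_
  obtain ⟨V, a, b, a', b', r, hxV, hA⟩ := hamp x
  let k : ℤ := min (i - r - 1) (i - b' + a - 2)
  obtain ⟨V₀, hx₀, hV₀⟩ := hK (k - 1) x
  obtain ⟨E, α, hE, hα⟩ := hV₀ K ⟨Iso.refl _⟩
  obtain ⟨W₁, hxW₁, hW₁⟩ := exists_free_nhd_sp hE ⟨x, hx₀⟩
  let W : (V₀ : Scheme.{u}).Opens := W₁ ⊓ (V₀.ι ⁻¹ᵁ V)
  have hW : ∀ q, ∃ n, Nonempty ((E.X q).restrict W.ι ≅ FlatMod.freeMod W n) := fun q => by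
    obtain ⟨n, ⟨e⟩⟩ := hW₁ q
    exact ⟨n, ⟨restrictFreeIso inf_le_left e⟩⟩
  let j : (W : Scheme.{u}) ⟶ X := W.ι ≫ V₀.ι
  have hjV : Set.range j.base ⊆ (V : Set X) := by
    rintro _ ⟨⟨w, hw⟩, rfl⟩
    exact hw.2
  refine ⟨W, j, inferInstance, ⟨⟨⟨x, hx₀⟩, hxW₁, hxV⟩, rfl⟩, ?_⟩
  let P := (rCx W.ι).obj E
  let eK : (rho W.ι).obj (DerivedCategory.Q.obj ((DCoh.restrictCx V₀).obj K)) ≅
      DerivedCategory.Q.obj ((rCx j).obj K) :=
    (rho W.ι).mapIso ((rhoQ V₀.ι).app K).symm ≪≫ rhoComp W.ι V₀.ι j rfl _ ≪≫ (rhoQ j).app K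
  let α' : DerivedCategory.Q.obj P ⟶ DerivedCategory.Q.obj ((rCx j).obj K) :=
    ((rhoQ W.ι).app E).inv ≫ (rho W.ι).map α ≫ eK.hom
  have hα' : IsPcMap (k - 1) α' := (IsPcMap.map_exact (Scheme.Modules.restrictFunctor W.ι) hα).comp_iso _ _
  obtain ⟨B, s, hB, hs⟩ := exists_kInjective_res ((rCx j).obj K)
  haveI := hs
  haveI := isIso_Q_map s hs
  obtain ⟨φ, hφ⟩ := exists_Q_map (α' ≫ DerivedCategory.Q.map s)
  have hφ' : ∀ q, k ≤ q → IsIso (HomologicalComplex.homologyMap φ q) := fun q hq => by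
    haveI := hα'.1 q (by omega)
    have h : IsIso ((DerivedCategory.homologyFunctor (W : Scheme.{u}).Modules q).map (DerivedCategory.Q.map φ)) := by
      rw [hφ, Functor.map_comp]
      infer_instance
    exact (NatIso.isIso_map_iff (DerivedCategory.homologyFunctorFactors _ q) φ).1 h
  have hunit : ∀ C, IsIso ((lshCxAdj j).unit.app C) := fun C =>
    haveI : ∀ i, IsIso (((lshCxAdj j).unit.app C).f i) := fun i =>
      inferInstanceAs (IsIso ((lshAdj j).unit.app _))
    HomologicalComplex.Hom.isIso_of_components _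
  haveI := hunit P
  haveI := hunit B
  have hg₁ : ∀ q, k ≤ q → IsoAt j ((lshCx j).map φ) q := fun q hq =>
    (isIso_homologyMap_iff_of_arrow_iso (f := φ) (f' := (rCx j).map ((lshCx j).map φ))
      (Arrow.isoMk (asIso ((lshCxAdj j).unit.app P)) (asIso ((lshCxAdj j).unit.app B))
        ((lshCxAdj j).unit.naturality φ).symm) q).1 (hφ' q hq)
  haveI hg₂ : QuasiIso ((rCx j).map ((lshCx j).map s)) := quasiIso_rCx_map_lshCx j s
  haveI := isIso_rCx_map_lshCx_counit j K
  have key : ∀ {A B : CochainComplex X.Modules ℤ} (g : A ⟶ B), (∀ q, k ≤ q → IsoAt j g q) →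
      (IsoAt j (coevalMap R L I c A) i ↔ IsoAt j (coevalMap R L I c B) i) := fun g hg =>
    isoAt_coeval_iff R L I c g i
      (isoAt_tensor j hR hR' r (hA.above _ j hjV) g k hg i (by omega))
      ((hA.right _ j hjV).isoAt_high _ (a - 1 - k)
        (fun q hq => (hA.left _ j hjV).isoAt_low g k hg q (by omega)) i (by omega))
  refine (key ((lshCxAdj j).counit.app K) fun q _ => isoAt_of_quasiIso j _ q).1
    ((key ((lshCx j).map s) fun q _ => isoAt_of_quasiIso j _ q).2 ((key ((lshCx j).map φ) hg₁).1 ?_))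
  obtain ⟨lo, hi, hab⟩ := hE.1
  haveI := quasiIso_rCx_coeval_lsh j R L I c hR hR' hc P lo hi
    (fun q hq => Functor.map_isZero (Scheme.Modules.restrictFunctor W.ι) (hab q hq)) hW
  exact isoAt_of_quasiIso j _ i

end Groth.Agent.RHomO7.LocalAmp
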