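import Groth.Agent.RHomO7.Theta
import Groth.Agent.KFlatLib.Scheme.ProjFormula
import Groth.Agent.KFlatLib.Scheme.AffinePush
import Groth.Agent.KFlatLib.Scheme.QCohDerived
import Groth.Agent.KFlatLib.Scheme.RHomBounded
import Groth.Agent.KFlatLib.SingleIso
import Groth.Agent.PerfGen7.HasRHom
import Groth.Prelude.Def_Dual3

/-!
# `Rf_* ∘ a = RHom(f_* O, -)` for affine morphisms
-/

set_option linter.style.haveILetI false
set_option backward.isDefEq.respectTransparency false
set_option backward.isDefEq.respectTransparency.types false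

universe u

open CategoryTheory CategoryTheory.Limits AlgebraicGeometry

attribute [local instance] HasDerivedCategory.standard

namespace Groth.Agent.RHomO7

open Groth.Agent.KFlatLib

variable {X Y : Scheme.{u}}

/-- Functors on the derived category agree if they agree on complexes. -/
theorem nonempty_iso_of_Q {C : Type*} [Category C] {F G : DCoh.D Y ⥤ C}
    (η : DerivedCategory.Q ⋙ F ≅ DerivedCategory.Q ⋙ G) : Nonempty (F ≅ G) :=
  letI : Localization.Lifting DerivedCategory.Q (qisX Y) (DerivedCategory.Q ⋙ F) F := ⟨Iso.refl _⟩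
  letI : Localization.Lifting DerivedCategory.Q (qisX Y) (DerivedCategory.Q ⋙ G) G := ⟨Iso.refl _⟩
  ⟨Localization.liftNatIso DerivedCategory.Q (qisX Y) _ _ F G η⟩

/-- `C ↦ R ⊗^L C` is `- ⊗^L R`. -/
theorem nonempty_projF_iso {R : CochainComplex Y.Modules ℤ} (hR : DCoh.IsKFlat R) [DCoh.HasLTensorCx R] :
    Nonempty (projF R ≅ DCoh.LTensorCx R) := by
  let c := (DCoh.tensorCxQ R).totalLeftDerivedCounit DerivedCategory.Q (qisX Y)
  haveI : ∀ N, IsIso (c.app N) := isIso_LTensorCx_counit_of_isKFlat_right R hR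
  haveI := NatIso.isIso_of_isIso_app c
  let σ := symmIso (T := DCoh.tensorBi (X := Y)) (tensorBiFlipIso Y) R
  haveI : ∀ N, IsIso ((kLiftε (kRespects_tensor R)).app N) := fun N => by
    haveI := (flatCover Y).quasiIso_ψ N
    haveI : QuasiIso ((DCoh.tensorCx.map ((flatCover Y).ψ.app N)).app R) := S0949.result R hR _
    haveI : QuasiIso ((DCoh.tensorCx.obj R).map ((flatCover Y).ψ.app N)) := by
      refine (quasiIso_iff_of_arrow_mk_iso _ _
        (Arrow.isoMk (σ.app _) (σ.app _) (σ.hom.naturality _).symm)).1 ?_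
      assumption
    haveI := isIso_Q_map ((DCoh.tensorCx.obj R).map ((flatCover Y).ψ.app N)) inferInstance
    exact inferInstanceAs (IsIso ((kLiftFac (kRespects_tensor R)).hom.app N ≫ DerivedCategory.Q.map _))
  haveI := NatIso.isIso_of_isIso_app (kLiftε (kRespects_tensor R))
  exact nonempty_iso_of_Q (asIso (kLiftε (kRespects_tensor R)) ≪≫
    Functor.isoWhiskerRight σ.symm DerivedCategory.Q ≪≫ (asIso c).symm)

/-- `C ↦ I ⊗^L Lf^* C` is `Lf^*` when `I` resolves the structure module. -/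
theorem nonempty_projH_iso (f : X ⟶ Y) [DCoh.HasLpull f] (I : CochainComplex X.Modules ℤ)
    (α : (HomologicalComplex.single X.Modules (ComplexShape.up ℤ) 0).obj (Coh.structureModule X) ⟶ I)
    [QuasiIso α] : Nonempty (projH f I ≅ DCoh.Lpull f) := by
  let S := (HomologicalComplex.single X.Modules (ComplexShape.up ℤ) 0).obj (Coh.structureModule X)
  let e₁ : DCoh.tensorCx.obj S ≅ 𝟭 (CochainComplex X.Modules ℤ) :=
    (symmIso (T := DCoh.tensorBi (X := X)) (tensorBiFlipIso X) S).symm ≪≫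
      singleIso DCoh.tensorBi (Coh.structureModule X) ≪≫
      NatIso.mapHomologicalComplex (tensorStructureIso X) (ComplexShape.up ℤ) ≪≫
      Functor.mapHomologicalComplexIdIso X.Modules (ComplexShape.up ℤ)
  let β : kRes Y ⋙ pullCx f ⋙ DCoh.tensorCx.obj S ⋙ DerivedCategory.Q ⟶
      kRes Y ⋙ pullCx f ⋙ DCoh.tensorCx.obj I ⋙ DerivedCategory.Q :=
    Functor.whiskerLeft (kRes Y ⋙ pullCx f) (Functor.whiskerRight (DCoh.tensorCx.map α) DerivedCategory.Q)
  haveI : ∀ N, IsIso (β.app N) := fun N => by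
    haveI : QuasiIso ((DCoh.tensorCx.map α).app ((pullCx f).obj ((kRes Y).obj N))) :=
      S0949.result _ (isKFlat_pullback f (isKFlat_kRes N)) _
    exact isIso_Q_map _ ‹QuasiIso ((DCoh.tensorCx.map α).app ((pullCx f).obj ((kRes Y).obj N)))›
  haveI := NatIso.isIso_of_isIso_app β
  exact nonempty_iso_of_Q (kLiftFac (kRespects_pullTensor f I) ≪≫ (asIso β).symm ≪≫
    Functor.isoWhiskerLeft (kRes Y ⋙ pullCx f) (Functor.isoWhiskerRight e₁ DerivedCategory.Q) ≪≫
    (lpullResIso f).symm)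

variable (f : X ⟶ Y) [IsAffineHom f] [DCoh.HasRpush f] [DCoh.HasLpull f]

/-- `K ⊗^L f_* O ≅ Rf_* Lf^* K`, naturally in quasi-coherent `K`. -/
theorem exists_tensor_push (E : CochainComplex Y.Modules ℤ)
    (hE : Nonempty (DCoh.toD Y E ≅ DCoh.inD Y ((Scheme.Modules.pushforward f).obj (Coh.structureModule X))))
    [DCoh.HasLTensorCx E] :
    ∃ τ : DCoh.LTensorCx E ⟶ DCoh.Lpull f ⋙ DCoh.Rpush f,
      ∀ K, DCoh.IsQCohD K → IsIso (τ.app K) := by
  obtain ⟨eE⟩ := hE
  let O := Coh.structureModule X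
  let S := (HomologicalComplex.single X.Modules (ComplexShape.up ℤ) 0).obj O
  obtain ⟨I, α, hI, hα, -, -⟩ := TriCat.exists_kInjective_resolution'.{u} S
  haveI := hI
  haveI := hα
  have hqS : ∀ n, Coh.IsQCoh (S.X n) := fun n => by
    by_cases hn : n = 0
    · subst hn
      exact isQCoh_of_iso (HomologicalComplex.singleObjXSelf (ComplexShape.up ℤ) 0 O).symm
        (QCoh.isQCoh_structureModule (X := X))
    · exact isQCoh_of_isZero (HomologicalComplex.isZero_single_obj_X (ComplexShape.up ℤ) 0 O n hn)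
  have hI' : DCoh.IsQCohD (DerivedCategory.Q.obj I) := by
    haveI := isIso_Q_map α hα
    refine isQCohD_of_iso (asIso (DerivedCategory.Q.map α)) fun n => ?_
    exact isQCoh_of_iso ((DerivedCategory.homologyFunctorFactors X.Modules n).app S).symm
      (isQCoh_homology_of_terms S hqS n)
  haveI : IsIso (DerivedCategory.Q.map ((pushCxF f).map α)) := by
    haveI := (isIso_rpushUnit_iff f S).2 (isIso_unit_of_isAffineHom f S hqS)
    haveI := isIso_rpushUnit_of_kInjective f I
    haveI := isIso_Q_map α hα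
    haveI : IsIso (DerivedCategory.Q.map ((pushCxF f).map α) ≫ (rpushUnit f).app I) := by
      have h : IsIso ((rpushUnit f).app S ≫ (DCoh.Rpush f).map (DerivedCategory.Q.map α)) := inferInstance
      refine (congrArg IsIso ((rpushUnit f).naturality α)).mpr ?_
      exact h
    exact IsIso.of_isIso_comp_right _ ((rpushUnit f).app I)
  let R := (kRes Y).obj ((pushCxF f).obj I)
  let a : R ⟶ (pushCxF f).obj I := (flatCover Y).ψ.app _
  haveI : QuasiIso a := (flatCover Y).quasiIso_ψ _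
  haveI := isIso_Q_map a inferInstance
  have hR : DCoh.IsKFlat R := isKFlat_kRes _
  haveI := hasLTensorCx R
  let eRE : DerivedCategory.Q.obj R ≅ DerivedCategory.Q.obj E :=
    asIso (DerivedCategory.Q.map a) ≪≫ (asIso (DerivedCategory.Q.map ((pushCxF f).map α))).symm ≪≫
      DerivedCategory.Q.mapIso
        ((HomologicalComplex.singleMapHomologicalComplex (Scheme.Modules.pushforward f) _ 0).app O) ≪≫
      ((DerivedCategory.singleFunctorIsoCompQ Y.Modules 0).app _).symm ≪≫ eE.symm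
  obtain ⟨cE⟩ := nonempty_LTensorCx_congr_D eRE
  obtain ⟨eF⟩ := nonempty_projF_iso hR
  obtain ⟨eH⟩ := nonempty_projH_iso f I α
  refine ⟨cE.inv ≫ eF.inv ≫ projθ f I a ≫ Functor.whiskerRight eH.hom (DCoh.Rpush f), fun K hK => ?_⟩
  let eP := DerivedCategory.Q.objObjPreimageIso K
  haveI := isIso_projθ f I a hR hI' (DerivedCategory.Q.objPreimage K) (isQCohD_of_iso eP.symm hK)
  haveI : IsIso ((projθ f I a).app K) := (NatTrans.isIso_app_iff_of_iso _ eP).1 inferInstance
  simp only [NatTrans.comp_app]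
  infer_instance

/-- `Rf_* a = RHom(f_* O, -)` on bounded below objects. -/
theorem nonempty_push_rightAdjoint_iso (hf : DCoh.RpushPreservesQCoh f)
    (a : DCoh.DQCoh Y ⥤ DCoh.DQCoh X) (adj : DCoh.RpushQ f hf ⊣ a)
    (E : CochainComplex Y.Modules ℤ)
    (hE : Nonempty (DCoh.toD Y E ≅ DCoh.inD Y ((Scheme.Modules.pushforward f).obj (Coh.structureModule X))))
    [DCoh.HasLTensorCx E] [DCoh.HasRSheafHom E]
    (hq : ∀ K : DCoh.DQCoh Y, Dual3.IsBddBelowQ Y K → DCoh.IsQCohD ((DCoh.RSheafHom E).obj K.obj)) :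
    Nonempty (Dual3.bddι Y ⋙ a ⋙ DCoh.RpushQ f hf ⋙ ObjectProperty.ι _ ≅
      Dual3.bddι Y ⋙ ObjectProperty.ι _ ⋙ DCoh.RSheafHom E) := by
  obtain ⟨τ, hτ⟩ := exists_tensor_push f E hE
  obtain ⟨aD⟩ := nonempty_lpull_rpush_adj f
  have hL : Dual3.LpullPreservesQCoh f := fun K hK => isQCohD_lpull f hK
  let aQ : Dual3.LpullQ f hL ⊣ DCoh.RpushQ f hf :=
    aD.restrictFullyFaithful (ObjectProperty.fullyFaithfulι _) (ObjectProperty.fullyFaithfulι _)
      (Iso.refl _) (Iso.refl _)
  let adj₁ := aQ.comp adj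
  let rA := DCoh.RSheafHomAdj E
  let R : (Dual3.IsBddBelowQ Y).FullSubcategory ⥤ DCoh.DQCoh Y :=
    ObjectProperty.lift _ (Dual3.bddι Y ⋙ ObjectProperty.ι _ ⋙ DCoh.RSheafHom E) fun K => hq K.obj K.property
  let T := Dual3.LpullQ f hL ⋙ DCoh.RpushQ f hf
  haveI : ∀ M : DCoh.DQCoh Y, IsIso (τ.app M.obj) := fun M => hτ M.obj M.property
  haveI : ∀ K : (Dual3.IsBddBelowQ Y).FullSubcategory, IsIso (τ.app ((DCoh.RSheafHom E).obj K.obj.1)) :=
    fun K => hτ _ (hq K.obj K.property)
  haveI : ∀ K : (Dual3.IsBddBelowQ Y).FullSubcategory, IsIso (τ.app (R.obj K).obj) :=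
    fun K => hτ _ (hq K.obj K.property)
  let β : ∀ K, T.obj (R.obj K) ⟶ (Dual3.bddι Y).obj K := fun K =>
    ObjectProperty.homMk (inv (τ.app (R.obj K).obj) ≫ rA.counit.app K.obj.obj)
  let θ : R ⟶ Dual3.bddι Y ⋙ a ⋙ DCoh.RpushQ f hf :=
    { app := fun K => adj₁.homEquiv _ _ (β K)
      naturality := fun K K' g => by
        refine (adj₁.homEquiv_naturality_left _ _).symm.trans ?_
        refine Eq.trans (congrArg _ ?_) (adj₁.homEquiv_naturality_right _ _)
        refine ObjectProperty.hom_ext _ ?_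
        show (DCoh.Lpull f ⋙ DCoh.Rpush f).map (R.map g).hom ≫ inv (τ.app _) ≫ rA.counit.app _ =
          (inv (τ.app _) ≫ rA.counit.app _) ≫ g.hom.hom
        rw [Category.assoc, IsIso.eq_inv_comp, ← Category.assoc, ← τ.naturality, Category.assoc,
          IsIso.hom_inv_id_assoc]
        exact rA.counit.naturality g.hom.hom }
  have : ∀ K, IsIso (θ.app K) := fun K => by
    refine isIso_of_yoneda_map_bijective _ fun M => ?_
    have key : ∀ φ : M ⟶ R.obj K, ((adj₁.homEquiv _ _).symm (φ ≫ θ.app K)).hom =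
        inv (τ.app M.obj) ≫ (rA.homEquiv _ _).symm φ.hom := fun φ => by
      show ((adj₁.homEquiv _ _).symm (φ ≫ adj₁.homEquiv _ _ (β K))).hom = _
      rw [adj₁.homEquiv_naturality_left_symm, Equiv.symm_apply_apply, rA.homEquiv_counit]
      show (DCoh.Lpull f ⋙ DCoh.Rpush f).map φ.hom ≫ inv (τ.app _) ≫ rA.counit.app _ = _
      rw [IsIso.eq_inv_comp, ← Category.assoc, ← τ.naturality, Category.assoc, IsIso.hom_inv_id_assoc]
    refine ⟨fun φ ψ h => ObjectProperty.hom_ext _ ((rA.homEquiv _ _).symm.injective ?_), fun y => ?_⟩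
    · have h' := congrArg (fun z => ((adj₁.homEquiv _ _).symm z).hom) h
      simp only [key, cancel_epi] at h'
      exact h'
    · refine ⟨ObjectProperty.homMk (rA.homEquiv _ _ (τ.app M.obj ≫ ((adj₁.homEquiv _ _).symm y).hom)),
        (adj₁.homEquiv _ _).symm.injective (ObjectProperty.hom_ext _ ((key _).trans ?_))⟩
      show inv (τ.app M.obj) ≫ (rA.homEquiv _ _).symm (rA.homEquiv _ _ _) = _
      rw [Equiv.symm_apply_apply, IsIso.inv_hom_id_assoc]
  haveI := NatIso.isIso_of_isIso_app θ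
  exact ⟨(Functor.isoWhiskerRight (asIso θ) (ObjectProperty.ι _)).symm⟩

end Groth.Agent.RHomO7
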