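import Groth.Agent.RHomO7.Theta
import Groth.Agent.KFlatLib.SingleIso
import Groth.Agent.KFlatLib.Scheme.ProjModule
import Groth.Agent.KFlatLib.Scheme.Flatness
import Groth.Agent.TriCat.RPlus
import Groth.Agent.PerfGen7.HasRHom
import Groth.Prelude.Def_Dual3

/-!
# `i_* RHom(O_Z, -) = RHom(i_* O_Z, -)`
-/

set_option linter.style.haveILetI false
set_option backward.isDefEq.respectTransparency false
set_option backward.isDefEq.respectTransparency.types false

universe u

open CategoryTheory CategoryTheory.Limits AlgebraicGeometry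

attribute [local instance] HasDerivedCategory.standard

namespace Groth.Agent.RHomO7

open Groth.Agent.KFlatLib

/-- An adjunction induces one on cochain complexes. -/
noncomputable def mapCxAdj {A B : Type*} [Category A] [Category B] [Preadditive A] [Preadditive B]
    {L : A ⥤ B} {R : B ⥤ A} [L.Additive] [R.Additive] (adj : L ⊣ R) :
    L.mapHomologicalComplex (ComplexShape.up ℤ) ⊣ R.mapHomologicalComplex (ComplexShape.up ℤ) :=
  Adjunction.mkOfUnitCounit
    { unit :=
        { app := fun K =>
            { f := fun n => adj.unit.app (K.X n)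
              comm' := fun i j _ => (adj.unit.naturality (K.d i j)).symm }
          naturality := fun K K' f => by
            ext n
            exact adj.unit.naturality (f.f n) }
      counit :=
        { app := fun K =>
            { f := fun n => adj.counit.app (K.X n)
              comm' := fun i j _ => (adj.counit.naturality (K.d i j)).symm }
          naturality := fun K K' f => by
            ext n
            exact adj.counit.naturality (f.f n) }
      left_triangle := by
        ext K n
        simp only [NatTrans.comp_app, Functor.whiskerRight_app, Functor.associator_hom_app,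
          Functor.whiskerLeft_app, Category.id_comp, HomologicalComplex.comp_f]
        exact adj.left_triangle_components (K.X n)
      right_triangle := by
        ext K n
        simp only [NatTrans.comp_app, Functor.whiskerRight_app, Functor.associator_inv_app,
          Functor.whiskerLeft_app, Category.id_comp, HomologicalComplex.comp_f]
        exact adj.right_triangle_components (K.X n) }

/-- Functors out of a category agree if they agree after precomposition with a full essentially surjective
functor. -/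
theorem nonempty_iso_of_precomp {A B C : Type*} [Category A] [Category B] [Category C] (G : A ⥤ B)
    [G.Full] [G.EssSurj] {F F' : B ⥤ C} (η : G ⋙ F ≅ G ⋙ F') : Nonempty (F ≅ F') := by
  refine ⟨NatIso.ofComponents (fun b => F.mapIso (G.objObjPreimageIso b).symm ≪≫ η.app (G.objPreimage b) ≪≫
    F'.mapIso (G.objObjPreimageIso b)) (fun {b b'} f => ?_)⟩
  obtain ⟨g, hg⟩ := G.map_surjective ((G.objObjPreimageIso b).hom ≫ f ≫ (G.objObjPreimageIso b').inv)
  simp only [Iso.trans_hom, Functor.mapIso_hom, Iso.app_hom, Category.assoc]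
  have h₁ : F.map f ≫ F.map (G.objObjPreimageIso b').symm.hom =
      F.map (G.objObjPreimageIso b).symm.hom ≫ F.map (G.map g) := by
    rw [hg, ← F.map_comp, ← F.map_comp]; simp
  have h₂ : F'.map (G.map g) ≫ F'.map (G.objObjPreimageIso b').hom =
      F'.map (G.objObjPreimageIso b).hom ≫ F'.map f := by
    rw [hg, ← F'.map_comp, ← F'.map_comp]; simp
  rw [reassoc_of% h₁]
  refine congrArg (_ ≫ ·) ?_
  rw [← h₂, ← Category.assoc, ← Category.assoc]
  exact congrArg (· ≫ _) (η.hom.naturality g)

variable {Z X : Scheme.{u}} (i : Z ⟶ X) [IsClosedImmersion i]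

/-- `i_* O_Z`. -/
noncomputable abbrev pushO : X.Modules := (Scheme.Modules.pushforward i).obj (Coh.structureModule Z)

/-- `i_* O_Z ⊗ N = i_* i^* N`. -/
noncomputable def tensorPushIso :
    DCoh.tensorBi.flip.obj (pushO i) ≅ Scheme.Modules.pullback i ⋙ Scheme.Modules.pushforward i :=
  (tensorBiFlipIso X).app (pushO i) ≪≫
    (NatIso.ofComponents (F := DCoh.tensorBi.obj (pushO i))
        (G := Scheme.Modules.pullback i ⋙ DCoh.tensorBi.obj (Coh.structureModule Z) ⋙
          Scheme.Modules.pushforward i)
      (fun N => haveI := isIso_projMod_of_isClosedImmersion i (Coh.structureModule Z) N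
        asIso (projMod i (Coh.structureModule Z) N))
      (fun g => projMod_naturality_right i (Coh.structureModule Z) g)) ≪≫
    Functor.isoWhiskerLeft (Scheme.Modules.pullback i)
      (Functor.isoWhiskerRight
        (((tensorBiFlipIso Z).app (Coh.structureModule Z)).symm ≪≫ tensorStructureIso Z)
        (Scheme.Modules.pushforward i))

variable [Dual3.HasHomO i]

/-- `F ↦ i_* Hom(O_Z, F)`. -/
noncomputable abbrev pushHomO : X.Modules ⥤ X.Modules :=
  Dual3.homO i ⋙ Scheme.Modules.pushforward i

/-- `- ⊗ i_* O_Z ⊣ i_* Hom(O_Z, -)`. -/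
noncomputable def tensorPushAdj : DCoh.tensorBi.flip.obj (pushO i) ⊣ pushHomO i :=
  ((Scheme.Modules.pullbackPushforwardAdjunction i).comp (Dual3.homOAdj i)).ofNatIsoLeft
    (tensorPushIso i).symm

/-- `i_* O_Z` as a complex. -/
noncomputable abbrev pushCx : CochainComplex X.Modules ℤ :=
  (HomologicalComplex.single X.Modules (ComplexShape.up ℤ) 0).obj (pushO i)

/-- Termwise `i_* Hom(O_Z, -)` is the internal hom out of `i_* O_Z`. -/
noncomputable def pushHomCxIso :
    (pushHomO i).mapHomologicalComplex (ComplexShape.up ℤ) ≅ iHom (pushCx i) :=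
  ((mapCxAdj (tensorPushAdj i)).ofNatIsoLeft
      (singleIso DCoh.tensorBi (pushO i)).symm).rightAdjointUniq (iHomAdj (pushCx i))

/-- A K-flat resolution of `i_* O_Z`. -/
noncomputable abbrev resCx : CochainComplex X.Modules ℤ := (kRes X).obj (pushCx i)

variable [EnoughInjectives X.Modules] [PreservesFiniteLimits (Scheme.Modules.pushforward i)]
  [PreservesFiniteColimits (Scheme.Modules.pushforward i)]

/-- Bounded below complexes of injectives, as complexes. -/
noncomputable abbrev jf : CochainComplex.Plus (InjectiveObject X.Modules) ⥤ CochainComplex X.Modules ℤ :=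
  CochainComplex.Plus.ι _ ⋙ (InjectiveObject.ι X.Modules).mapHomologicalComplex (ComplexShape.up ℤ)

/-- Bounded below complexes of injectives, in the derived category. -/
noncomputable abbrev phi : CochainComplex.Plus (InjectiveObject X.Modules) ⥤ DerivedCategory.Plus X.Modules :=
  HomotopyCategory.Plus.quotient _ ⋙ TriCat.injToPlus X.Modules

instance : (TriCat.injToPlus X.Modules).EssSurj where
  mem_essImage E := by
    obtain ⟨a, ha⟩ : ∃ a, E.obj.IsGE a := E.property
    haveI : E.IsGE a := (DerivedCategory.Plus.isGE_ι_obj_iff E a).1 ha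
    obtain ⟨L, -, ⟨e⟩⟩ := DerivedCategory.Plus.exists_injective_nonempty_iso E a
    exact ⟨(HomotopyCategory.Plus.quotient _).obj L, ⟨e⟩⟩

/-- `phi` on underlying objects. -/
noncomputable def phiIso : phi (X := X) ⋙ DerivedCategory.Plus.ι ≅ jf ⋙ DerivedCategory.Q :=
  Functor.isoWhiskerLeft jf (DerivedCategory.quotientCompQhIso X.Modules)

/-- The left-hand side on complexes of injectives. -/
noncomputable def lhsIso :
    phi (X := X) ⋙ Dual3.RHomOPlus i ⋙ (DerivedCategory.Plus.ι : DerivedCategory.Plus Z.Modules ⥤ DCoh.D Z) ⋙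
      Dual3.pushD i ≅
    jf ⋙ (pushHomO i).mapHomologicalComplex (ComplexShape.up ℤ) ⋙ DerivedCategory.Q :=
  Functor.isoWhiskerLeft (HomotopyCategory.Plus.quotient _)
      (Functor.isoWhiskerRight (TriCat.rightDerivedPlusIso X.Modules (Dual3.homO i))
        (DerivedCategory.Plus.ι ⋙ Dual3.pushD i)) ≪≫
    Functor.isoWhiskerLeft (jf ⋙ (Dual3.homO i).mapHomologicalComplex (ComplexShape.up ℤ))
      (Functor.isoWhiskerRight (DerivedCategory.quotientCompQhIso Z.Modules) (Dual3.pushD i)) ≪≫
    Functor.isoWhiskerLeft (jf ⋙ (Dual3.homO i).mapHomologicalComplex (ComplexShape.up ℤ))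
      (Scheme.Modules.pushforward i).mapDerivedCategoryFactors ≪≫
    Functor.isoWhiskerLeft jf (Functor.isoWhiskerRight
      (Functor.mapHomologicalComplexCompIso (Iso.refl (pushHomO i)) (ComplexShape.up ℤ))
      DerivedCategory.Q)

/-- The comparison on complexes. -/
noncomputable def cmpNat [DCoh.HasLTensorCx (resCx i)] [DCoh.HasRSheafHom (resCx i)] :
    (pushHomO i).mapHomologicalComplex (ComplexShape.up ℤ) ⋙ DerivedCategory.Q ⟶
      DerivedCategory.Q ⋙ DCoh.RSheafHom (resCx i) :=
  Functor.whiskerRight ((pushHomCxIso i).hom ≫ iHomMap ((flatCover X).ψ.app (pushCx i)))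
      DerivedCategory.Q ≫ theta (resCx i)

theorem isIso_cmpNat [DCoh.HasLTensorCx (resCx i)] [DCoh.HasRSheafHom (resCx i)]
    (L : CochainComplex.Plus (InjectiveObject X.Modules)) : IsIso ((cmpNat i).app (jf.obj L)) := by
  obtain ⟨n, hn⟩ := L.property
  haveI : ∀ k, Injective ((jf.obj L).X k) := fun k => (L.obj.X k).property
  haveI : CochainComplex.IsStrictlyGE (jf.obj L) n :=
    inferInstanceAs (CochainComplex.IsStrictlyGE
      (((InjectiveObject.ι X.Modules).mapHomologicalComplex _).obj L.obj) n)
  haveI : CochainComplex.IsKInjective (jf.obj L) := CochainComplex.isKInjective_of_injective _ n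
  haveI := (flatCover X).quasiIso_ψ (pushCx i)
  haveI := isIso_theta (resCx i) (isKFlat_kRes (pushCx i)) (jf.obj L)
  haveI := quasiIso_iHomMap ((flatCover X).ψ.app (pushCx i)) (jf.obj L)
  haveI := isIso_Q_map ((iHomMap ((flatCover X).ψ.app (pushCx i))).app (jf.obj L)) inferInstance
  simp only [cmpNat, NatTrans.comp_app, Functor.whiskerRight_app, Functor.map_comp]
  infer_instance

/-- `i_* RHom(O_Z, -) ≅ RHom(i_* O_Z, -)`. -/
theorem nonempty_iso (E : CochainComplex X.Modules ℤ)
    (hE : Nonempty (DCoh.toD X E ≅ DCoh.inD X (pushO i)))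
    [DCoh.HasLTensorCx E] [DCoh.HasRSheafHom E] :
    Nonempty (Dual3.RHomOPlus i ⋙ (DerivedCategory.Plus.ι : DerivedCategory.Plus Z.Modules ⥤ DCoh.D Z) ⋙
        Dual3.pushD i ≅
      (DerivedCategory.Plus.ι : DerivedCategory.Plus X.Modules ⥤ DCoh.D X) ⋙ DCoh.RSheafHom E) := by
  obtain ⟨e⟩ := hE
  haveI : DCoh.HasLTensorCx (resCx i) := hasLTensorCx _
  haveI : DCoh.HasRSheafHom (resCx i) := PerfGen7.hasRSheafHom _
  haveI := (flatCover X).quasiIso_ψ (pushCx i)
  haveI := isIso_Q_map ((flatCover X).ψ.app (pushCx i)) inferInstance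
  obtain ⟨eR⟩ := nonempty_RSheafHom_congr_D (P := resCx i) (E := E)
    (asIso (DerivedCategory.Q.map ((flatCover X).ψ.app (pushCx i))) ≪≫
      ((DerivedCategory.singleFunctorIsoCompQ X.Modules 0).app (pushO i)).symm ≪≫ e.symm)
  haveI : ∀ L, IsIso ((Functor.whiskerLeft jf (cmpNat i)).app L) := isIso_cmpNat i
  haveI := NatIso.isIso_of_isIso_app (Functor.whiskerLeft (jf (X := X)) (cmpNat i))
  let η : phi (X := X) ⋙ Dual3.RHomOPlus i ⋙ (DerivedCategory.Plus.ι : DerivedCategory.Plus Z.Modules ⥤ DCoh.D Z) ⋙
        Dual3.pushD i ≅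
      phi (X := X) ⋙ (DerivedCategory.Plus.ι : DerivedCategory.Plus X.Modules ⥤ DCoh.D X) ⋙ DCoh.RSheafHom E :=
    lhsIso i ≪≫ asIso (Functor.whiskerLeft jf (cmpNat i)) ≪≫
      Functor.isoWhiskerRight (phiIso (X := X)).symm (DCoh.RSheafHom (resCx i)) ≪≫
      Functor.isoWhiskerLeft (phi ⋙ DerivedCategory.Plus.ι) eR
  exact nonempty_iso_of_precomp (phi (X := X)) η

end Groth.Agent.RHomO7
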