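import Groth.Agent.RHomO7.Rows

/-!
# Quasi-coherence of `RHom(O_Z, -)` for pseudo-coherent closed immersions
-/

set_option linter.style.haveILetI false
set_option backward.isDefEq.respectTransparency false
set_option backward.isDefEq.respectTransparency.types false

universe u

open CategoryTheory CategoryTheory.Limits AlgebraicGeometry

attribute [local instance] HasDerivedCategory.standard

namespace Groth.Agent.RHomO7

open Groth.Agent.KFlatLib

variable {Z X : Scheme.{u}} (i : Z ⟶ X) [IsClosedImmersion i] [Dual3.HasHomO i] [EnoughInjectives X.Modules]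
  [PreservesFiniteLimits (Scheme.Modules.pushforward i)] [PreservesFiniteColimits (Scheme.Modules.pushforward i)]

theorem isQCohD_RHomOPlus_of_pc
    (hpc : ∀ m : ℤ, DCoh.IsPseudoCoherentD m (DCoh.inD X (pushO i)))
    (K : DerivedCategory.Plus X.Modules) (hK : DCoh.IsQCohD K.obj) :
    DCoh.IsQCohD ((Dual3.RHomOPlus i).obj K).obj := by
  let e := ((DerivedCategory.singleFunctorIsoCompQ X.Modules 0).app (pushO i)).symm
  haveI : DCoh.HasLTensorCx (pushCx i) := hasLTensorCx _
  haveI : DCoh.HasRSheafHom (pushCx i) := PerfGen7.hasRSheafHom _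
  obtain ⟨η⟩ := nonempty_iso i (pushCx i) ⟨e⟩
  obtain ⟨a, ha⟩ : ∃ a, K.obj.IsGE a := K.property
  have hpc' : ∀ m : ℤ, DCoh.IsPseudoCoherentD m (DCoh.toD X (pushCx i)) := fun m =>
    (isPseudoCoherentD_iff _ _).2 (((isPseudoCoherentD_iff _ _).1 (hpc m)).of_iso e.symm)
  have h := isQCohD_of_iso (η.app K).symm
    (isQCohD_RSheafHom_of_pseudoCoherent (pushCx i) hpc' K.obj hK a)
  exact fun n => isQCoh_of_push i (isQCoh_of_iso
    ((mapDCHomologyIso (Scheme.Modules.pushforward i) n).app _) (h n))

end Groth.Agent.RHomO7
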