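import Groth.Agent.RHomO7.Main
import Groth.Agent.ClosedPush.Full
import Groth.Agent.AmpleVan.ThickPush
import Groth.Agent.KFlatLib.Scheme.RHomBounded
import Groth.Agent.KFlatLib.Scheme.CohD
import Groth.Agent.H23.SpClosed
import Groth.Agent.ZClosLib.CohDescent
import Groth.Agent.S1116

/-!
# `RHom(O_Z, -)` preserves quasi-coherence and coherence
-/

set_option linter.style.haveILetI false
set_option backward.isDefEq.respectTransparency false
set_option backward.isDefEq.respectTransparency.types false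

universe u

open CategoryTheory CategoryTheory.Limits AlgebraicGeometry

attribute [local instance] HasDerivedCategory.standard

namespace Groth.Agent.RHomO7

open Groth.Agent.KFlatLib

variable {Z X : Scheme.{u}} (i : Z ⟶ X) [IsClosedImmersion i]

/-- `i^* i_* M = M`. -/
noncomputable def pullPushIso (M : Z.Modules) :
    (Scheme.Modules.pullback i).obj ((Scheme.Modules.pushforward i).obj M) ≅ M :=
  haveI := ClosedPush.full_push i
  haveI := AmpleVan.faithful_push i
  asIso ((Scheme.Modules.pullbackPushforwardAdjunction i).counit.app M)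

theorem isQCoh_of_push {M : Z.Modules} (h : Coh.IsQCoh ((Scheme.Modules.pushforward i).obj M)) :
    Coh.IsQCoh M :=
  isQCoh_of_iso (pullPushIso i M) (QCoh.isQCoh_pullback i h)

theorem isCoh_of_push [IsLocallyNoetherian X] {M : Z.Modules}
    (h : Coh.IsCoh ((Scheme.Modules.pushforward i).obj M)) : Coh.IsCoh M :=
  haveI := LocallyOfFiniteType.isLocallyNoetherian i
  isCoh_of_iso (pullPushIso i M) (ZClosLib.isCoh_pullback i h)

variable [Dual3.HasHomO i] [EnoughInjectives X.Modules] [PreservesFiniteLimits (Scheme.Modules.pushforward i)]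
  [PreservesFiniteColimits (Scheme.Modules.pushforward i)] [IsLocallyNoetherian X]

theorem exists_rhom (K : DerivedCategory.Plus X.Modules) :
    ∃ (E : CochainComplex X.Modules ℤ) (_ : DCoh.HasLTensorCx E) (_ : DCoh.HasRSheafHom E),
      (DCoh.toD X E).IsLE 0 ∧ DCoh.IsCohD (DCoh.toD X E) ∧
      Nonempty ((Dual3.pushD i).obj ((Dual3.RHomOPlus i).obj K).obj ≅ (DCoh.RSheafHom E).obj K.obj) := by
  let e := ((DerivedCategory.singleFunctorIsoCompQ X.Modules 0).app (pushO i)).symm
  haveI : DCoh.HasLTensorCx (pushCx i) := hasLTensorCx _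
  haveI : DCoh.HasRSheafHom (pushCx i) := PerfGen7.hasRSheafHom _
  obtain ⟨η⟩ := nonempty_iso i (pushCx i) ⟨e⟩
  refine ⟨pushCx i, inferInstance, inferInstance, ?_, ?_, ⟨η.app K⟩⟩
  · exact DerivedCategory.TStructure.t.isLE_of_iso e.symm 0
  · refine isCohD_of_iso e.symm fun n => ?_
    rcases lt_trichotomy n 0 with hn | rfl | hn
    · exact isCoh_of_isZero (DerivedCategory.isZero_of_isGE _ 0 n hn)
    · exact isCoh_of_iso ((DerivedCategory.singleFunctorCompHomologyFunctorIso X.Modules 0).app (pushO i)).symm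
        (H23.SpClosed.isCoh_push i)
    · exact isCoh_of_isZero (DerivedCategory.isZero_of_isLE _ 0 n hn)

theorem isQCohD_RHomOPlus (K : DerivedCategory.Plus X.Modules) (hK : DCoh.IsQCohD K.obj) :
    DCoh.IsQCohD ((Dual3.RHomOPlus i).obj K).obj := by
  obtain ⟨E, _, _, hle, hE, ⟨e⟩⟩ := exists_rhom i K
  obtain ⟨a, ha⟩ : ∃ a, K.obj.IsGE a := K.property
  have hpc : ∀ m : ℤ, DCoh.IsPseudoCoherentD m (DCoh.toD X E) := fun m =>
    (isPseudoCoherentD_iff _ _).2 (locPC_of_coh (isCohD_isQCohD hE) (fun i _ => hE i) 0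
      ((DerivedCategory.isLE_iff _ 0).1 hle))
  have h := isQCohD_of_iso e.symm (isQCohD_RSheafHom_of_pseudoCoherent E hpc K.obj hK a)
  exact fun n => isQCoh_of_push i (isQCoh_of_iso
    ((mapDCHomologyIso (Scheme.Modules.pushforward i) n).app _) (h n))

theorem isCohD_RHomOPlus (K : DerivedCategory.Plus X.Modules) (hK : DCoh.IsCohD K.obj) :
    DCoh.IsCohD ((Dual3.RHomOPlus i).obj K).obj := by
  obtain ⟨E, _, _, hle, hE, ⟨e⟩⟩ := exists_rhom i K
  obtain ⟨a, ha⟩ : ∃ a, K.obj.IsGE a := K.property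
  have h := isCohD_of_iso e.symm (Groth.Agent.S1116.result X E 0 hE K.obj a hK).1
  exact fun n => isCoh_of_push i (isCoh_of_iso
    ((mapDCHomologyIso (Scheme.Modules.pushforward i) n).app _) (h n))

end Groth.Agent.RHomO7
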