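import Groth.Agent.KFlatLib.Scheme.InnerHom
import Groth.Agent.KFlatLib.Scheme.ProjFormula

/-!
# The natural comparison `Q iHom(P, I) ⟶ RHom(P, Q I)`
-/

set_option linter.style.haveILetI false
set_option backward.isDefEq.respectTransparency false

universe u

open CategoryTheory CategoryTheory.Limits AlgebraicGeometry

attribute [local instance] HasDerivedCategory.standard

namespace Groth.Agent.RHomO7

open Groth.Agent.KFlatLib

variable {X : Scheme.{u}} (P : CochainComplex X.Modules ℤ) [DCoh.HasLTensorCx P] [DCoh.HasRSheafHom P]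

/-- The counit of the derived tensor product. -/
noncomputable abbrev cT : DerivedCategory.Q ⋙ DCoh.LTensorCx P ⟶ DCoh.tensorCxQ P :=
  (DCoh.tensorCxQ P).totalLeftDerivedCounit DerivedCategory.Q (qisX X)

/-- The comparison, in one component. -/
noncomputable def thetaApp (I : CochainComplex X.Modules ℤ) :
    DerivedCategory.Q.obj ((iHom P).obj I) ⟶ (DCoh.RSheafHom P).obj (DerivedCategory.Q.obj I) :=
  (DCoh.RSheafHomAdj P).homEquiv _ _
    ((cT P).app ((iHom P).obj I) ≫ DerivedCategory.Q.map ((iHomAdj P).counit.app I))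

/-- The comparison. -/
noncomputable def theta : iHom P ⋙ DerivedCategory.Q ⟶ DerivedCategory.Q ⋙ DCoh.RSheafHom P where
  app := thetaApp P
  naturality I J f := by
    show DerivedCategory.Q.map ((iHom P).map f) ≫ thetaApp P J =
      thetaApp P I ≫ (DCoh.RSheafHom P).map (DerivedCategory.Q.map f)
    refine ((DCoh.RSheafHomAdj P).homEquiv_naturality_left _ _).symm.trans ?_
    refine Eq.trans (congrArg _ ?_) ((DCoh.RSheafHomAdj P).homEquiv_naturality_right _ _)
    refine ((Category.assoc _ _ _).symm.trans (congrArg (· ≫ _)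
      ((cT P).naturality ((iHom P).map f)))).trans ?_
    refine (Category.assoc _ _ _).trans (Eq.trans ?_ (Category.assoc _ _ _).symm)
    refine congrArg (_ ≫ ·) ?_
    refine (DerivedCategory.Q.map_comp _ _).symm.trans (Eq.trans ?_ (DerivedCategory.Q.map_comp _ _))
    exact congrArg (fun z => DerivedCategory.Q.map z) ((iHomAdj P).counit.naturality f)

/-- It is invertible at K-injective complexes of injectives. -/
theorem isIso_theta (hP : DCoh.IsKFlat P) (I : CochainComplex X.Modules ℤ) [I.IsKInjective]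
    [∀ n, Injective (I.X n)] : IsIso ((theta P).app I) := by
  let A := (iHom P).obj I
  let c := cT P
  haveI := fun N => isIso_LTensorCx_counit_of_isKFlat_right P hP N
  haveI := isKInjective_iHom hP I
  let adj := DCoh.RSheafHomAdj P
  let cmp : DerivedCategory.Q.obj A ⟶ (DCoh.RSheafHom P).obj (DerivedCategory.Q.obj I) := thetaApp P I
  have key : ∀ (N : CochainComplex X.Modules ℤ) (g : N ⟶ A),
      (adj.homEquiv _ _).symm (DerivedCategory.Q.map g ≫ cmp) =
        c.app N ≫ DerivedCategory.Q.map (((iHomAdj P).homEquiv N I).symm g) := fun N g => by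
    refine (Equiv.symm_apply_eq _).2 ?_
    refine (adj.homEquiv_naturality_left _ _).symm.trans (congrArg _ ?_)
    refine Eq.trans ?_ (congrArg (fun z => c.app N ≫ DerivedCategory.Q.map z)
      ((iHomAdj P).homEquiv_counit N I g).symm)
    refine Eq.trans ?_ (congrArg (c.app N ≫ ·) (DerivedCategory.Q.map_comp _ _).symm)
    exact ((Category.assoc _ _ _).symm.trans (congrArg (· ≫ _) (c.naturality g))).trans
      (Category.assoc _ _ _)
  show IsIso cmp
  refine isIso_of_yoneda_map_bijective _ fun Z => ?_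
  obtain ⟨N, hN, ⟨e⟩⟩ := exists_kFlat_rep Z
  suffices h : Function.Bijective (fun a : DerivedCategory.Q.obj N ⟶ DerivedCategory.Q.obj A => a ≫ cmp) by
    refine ⟨fun z z' hz => (cancel_epi e.hom).1 (h.1 ?_), fun y => ?_⟩
    · simp only [Category.assoc] at hz ⊢
      exact congrArg (e.hom ≫ ·) hz
    · obtain ⟨z, hz⟩ := h.2 (e.hom ≫ y)
      refine ⟨e.inv ≫ z, ?_⟩
      change (e.inv ≫ z) ≫ _ = y
      simp only [Category.assoc] at hz ⊢
      exact (congrArg (e.inv ≫ ·) hz).trans (Iso.inv_hom_id_assoc e y)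
  refine ⟨fun a a' h => ?_, fun y => ?_⟩
  · obtain ⟨g, rfl⟩ := exists_Q_map a
    obtain ⟨g', rfl⟩ := exists_Q_map a'
    have h' := congrArg (adj.homEquiv (DerivedCategory.Q.obj N) _).symm h
    simp only [key] at h'
    obtain ⟨H⟩ := (Inner.nonempty_homotopy_iff (DCoh.tensorBi (X := X)) g g').2
      (homotopy_of_Q_map_eq _ _ ((cancel_epi (c.app N)).1 h'))
    exact DerivedCategory.Q_map_eq_of_homotopy _ H
  · obtain ⟨b, hb⟩ := exists_Q_map (inv (c.app N) ≫ (adj.homEquiv _ _).symm y)
    refine ⟨DerivedCategory.Q.map ((iHomAdj P).homEquiv N I b), (adj.homEquiv _ _).symm.injective ?_⟩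
    rw [key, Equiv.symm_apply_apply, hb]
    exact IsIso.hom_inv_id_assoc (c.app N) _

/-- `RHom(-, L)` only depends on the class in the derived category. -/
theorem nonempty_RSheafHom_congr_D {P E : CochainComplex X.Modules ℤ}
    (e : DerivedCategory.Q.obj P ≅ DerivedCategory.Q.obj E) [DCoh.HasLTensorCx P] [DCoh.HasLTensorCx E]
    [DCoh.HasRSheafHom P] [DCoh.HasRSheafHom E] : Nonempty (DCoh.RSheafHom P ≅ DCoh.RSheafHom E) := by
  obtain ⟨e'⟩ := nonempty_LTensorCx_congr_D e
  exact ⟨((DCoh.RSheafHomAdj P).ofNatIsoLeft e').rightAdjointUniq (DCoh.RSheafHomAdj E)⟩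

end Groth.Agent.RHomO7
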