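import Groth.Agent.QCoh.TensorSections
import Groth.Agent.QCoh.Tilde
import Groth.Agent.KFlatLib.Scheme.PullTensorCx

/-!
# `(M ⊗ N)^~ ≅ M^~ ⊗ N^~`, natural in both variables
-/

set_option linter.style.haveILetI false
set_option backward.isDefEq.respectTransparency false
set_option backward.isDefEq.respectTransparency.types false
set_option maxHeartbeats 1600000

universe u

open CategoryTheory CategoryTheory.Limits AlgebraicGeometry MonoidalCategory Opposite
open scoped TensorProduct

namespace Groth.Agent.RHomO7.TildeTensor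

open Groth.Agent.KFlatLib

variable {R : CommRingCat.{u}}

lemma algebraMap_surj : Function.Surjective (algebraMap R Γ(Spec R, ⊤)) := fun x => by
  refine ⟨(Scheme.ΓSpecIso R).hom x, ?_⟩
  change ((Spec R).presheaf.map (⊤ : (Spec R).Opens).leTop.op)
    ((Scheme.ΓSpecIso R).inv ((Scheme.ΓSpecIso R).hom x)) = x
  rw [Subsingleton.elim (⊤ : (Spec R).Opens).leTop (𝟙 _), op_id, CategoryTheory.Functor.map_id]
  exact congr($((Scheme.ΓSpecIso R).hom_inv_id) x)

lemma compatibleSMul (M N : ModuleCat.{u} R) :
    TensorProduct.CompatibleSMul R Γ(Spec R, ⊤) Γ(tilde M, ⊤) Γ(tilde N, ⊤) := ⟨fun g m n => by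
  obtain ⟨r, rfl⟩ := algebraMap_surj g
  rw [algebraMap_smul, algebraMap_smul, TensorProduct.smul_tmul]⟩

/-- `m ⊗ n ↦` the section `m ⊗ n`. -/
noncomputable def secEquiv (M N : ModuleCat.{u} R) :
    (M ⊗[R] N) ≃ₗ[R] moduleSpecΓFunctor.obj ((DCoh.tensorBi.obj (tilde M)).obj (tilde N)) :=
  haveI := compatibleSMul M N
  ((TensorProduct.congr (tilde.isoTop M).toLinearEquiv (tilde.isoTop N).toLinearEquiv).trans
    (TensorProduct.equivOfCompatibleSMul Γ(Spec R, ⊤) R R Γ(tilde M, ⊤) Γ(tilde N, ⊤))).trans
    ((LinearEquiv.ofBijective _ (QCoh.bijective_tmLin (M := tilde M) (N := tilde N) inferInstance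
      inferInstance (isAffineOpen_top (Spec R)))).restrictScalars R)

lemma secEquiv_tmul (M N : ModuleCat.{u} R) (m : M) (n : N) :
    secEquiv M N (m ⊗ₜ n) =
      QCoh.tmS (tilde M) (tilde N) ((tilde.isoTop M).hom m) ((tilde.isoTop N).hom n) :=
  rfl

/-- The global sections of `M^~ ⊗ N^~`. -/
noncomputable def secHom (M N : ModuleCat.{u} R) :
    ((curriedTensor (ModuleCat.{u} R)).obj M).obj N ⟶
      moduleSpecΓFunctor.obj ((DCoh.tensorBi.obj (tilde M)).obj (tilde N)) :=
  (secEquiv M N).toModuleIso.hom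

/-- `(M ⊗ N)^~ ⟶ M^~ ⊗ N^~`. -/
noncomputable def tildeTensorHom (M N : ModuleCat.{u} R) :
    (tilde.functor R).obj (((curriedTensor (ModuleCat.{u} R)).obj M).obj N) ⟶
      (DCoh.tensorBi.obj ((tilde.functor R).obj M)).obj ((tilde.functor R).obj N) :=
  ((tilde.adjunction (R := R)).homEquiv _ _).symm (secHom M N)

lemma isIso_tildeTensorHom (M N : ModuleCat.{u} R) : IsIso (tildeTensorHom M N) := by
  have hT : Coh.IsQCoh ((DCoh.tensorBi.obj (tilde M)).obj (tilde N)) :=
    isQCoh_tensor (M := tilde M) (N := tilde N) inferInstance inferInstance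
  have hi : IsIso ((DCoh.tensorBi.obj (tilde M)).obj (tilde N)).fromTildeΓ :=
    (isQuasicoherent_iff_isIso_fromTildeΓ _).1 hT
  haveI : IsIso (secHom M N) := inferInstanceAs (IsIso (secEquiv M N).toModuleIso.hom)
  rw [tildeTensorHom, Adjunction.homEquiv_counit]
  exact IsIso.comp_isIso' inferInstance hi

lemma naturality_left {M M' : ModuleCat.{u} R} (f : M ⟶ M') (N : ModuleCat.{u} R) :
    (tilde.functor R).map (((curriedTensor (ModuleCat.{u} R)).map f).app N) ≫ tildeTensorHom M' N =
      tildeTensorHom M N ≫ (DCoh.tensorBi.map ((tilde.functor R).map f)).app _ := by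
  apply ((tilde.adjunction (R := R)).homEquiv _ _).injective
  rw [Adjunction.homEquiv_naturality_left, Adjunction.homEquiv_naturality_right, tildeTensorHom,
    tildeTensorHom, Equiv.apply_symm_apply, Equiv.apply_symm_apply]
  refine ModuleCat.MonoidalCategory.tensor_ext fun m n => ?_
  change secEquiv M' N (f.hom m ⊗ₜ n) = (moduleSpecΓFunctor.map _).hom (secEquiv M N (m ⊗ₜ n))
  rw [secEquiv_tmul, secEquiv_tmul]
  have h : (tilde.isoTop M').hom (f.hom m) =
      (moduleSpecΓFunctor.map ((tilde.functor R).map f)).hom ((tilde.isoTop M).hom m) :=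
    ConcreteCategory.congr_hom ((tilde.toTildeΓNatIso (R := R)).hom.naturality f) m
  rw [h]
  exact (tmSh_naturality_left ((tilde.functor R).map f) ((tilde.functor R).obj N)
    ((tilde.isoTop M).hom m) ((tilde.isoTop N).hom n)).symm

lemma naturality_right (M : ModuleCat.{u} R) {N N' : ModuleCat.{u} R} (f : N ⟶ N') :
    (tilde.functor R).map (((curriedTensor (ModuleCat.{u} R)).obj M).map f) ≫ tildeTensorHom M N' =
      tildeTensorHom M N ≫ (DCoh.tensorBi.obj _).map ((tilde.functor R).map f) := by
  apply ((tilde.adjunction (R := R)).homEquiv _ _).injective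
  rw [Adjunction.homEquiv_naturality_left, Adjunction.homEquiv_naturality_right, tildeTensorHom,
    tildeTensorHom, Equiv.apply_symm_apply, Equiv.apply_symm_apply]
  refine ModuleCat.MonoidalCategory.tensor_ext fun m n => ?_
  change secEquiv M N' (m ⊗ₜ f.hom n) = (moduleSpecΓFunctor.map _).hom (secEquiv M N (m ⊗ₜ n))
  rw [secEquiv_tmul, secEquiv_tmul]
  have h : (tilde.isoTop N').hom (f.hom n) =
      (moduleSpecΓFunctor.map ((tilde.functor R).map f)).hom ((tilde.isoTop N).hom n) :=
    ConcreteCategory.congr_hom ((tilde.toTildeΓNatIso (R := R)).hom.naturality f) n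
  rw [h]
  exact (tmSh_naturality_right ((tilde.functor R).obj M) ((tilde.functor R).map f)
    ((tilde.isoTop M).hom m) ((tilde.isoTop N).hom n)).symm

/-- `(M ⊗ N)^~ ≅ M^~ ⊗ N^~`, natural in both variables. -/
noncomputable def tildeTensorIso :
    curriedTensor (ModuleCat.{u} R) ⋙
        (Functor.whiskeringRight (ModuleCat.{u} R) (ModuleCat.{u} R) (Spec R).Modules).obj
          (tilde.functor R) ≅
      tilde.functor R ⋙ DCoh.tensorBi ⋙
        (Functor.whiskeringLeft (ModuleCat.{u} R) (Spec R).Modules (Spec R).Modules).obj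
          (tilde.functor R) :=
  NatIso.ofComponents
    (fun M => NatIso.ofComponents
      (fun N => haveI := isIso_tildeTensorHom M N; asIso (tildeTensorHom M N))
      (fun f => naturality_right M f))
    (fun f => NatTrans.ext (funext fun N => naturality_left f N))

end Groth.Agent.RHomO7.TildeTensor
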