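import Groth.Agent.RHomO7.BidualityMain
import Groth.Agent.PerfGen7.DualizingUnique
import Groth.Agent.PerfGen7.RankOne
import Groth.Agent.DualCover7.Main
import Groth.Prelude.Def_Dual3

/-!
# Dualizing complexes differ by an invertible object
-/

set_option linter.style.haveILetI false
set_option backward.isDefEq.respectTransparency false
set_option maxHeartbeats 800000

universe u

open CategoryTheory CategoryTheory.Limits AlgebraicGeometry

open scoped TensorProduct

attribute [local instance] HasDerivedCategory.standard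

namespace Groth.Agent.RHomO7.Unique

open Groth.Agent.KFlatLib LocalAmp AffineDuality

/-- Near a prime, `RHom(ω, ω')` is the shifted ring. -/
theorem exists_away_RHom {A : Type u} [CommRing A] [IsNoetherianRing A] [DTen.HasLTen A] [DTen.HasRHom A]
    {ω ω' : Dual.D A} (hω : Dual.IsDualizing A ω) (hω' : Dual.IsDualizing A ω') (p : Ideal A) [p.IsPrime] :
    ∃ f : A, f ∉ p ∧ ∃ m : ℤ, ∀ [DTen.HasLBase (algebraMap A (Localization.Away f))],
      Nonempty ((DTen.LBase (algebraMap A (Localization.Away f))).obj ((DTen.RHomR A ω).obj ω') ≅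
        (DTen.unit _)⟦m⟧) := by
  obtain ⟨a, b, hab, _, _⟩ := exists_bounds_of_isDualizing hω
  obtain ⟨a', b', hab', _, _⟩ := exists_bounds_of_isDualizing hω'
  let Q := (DTen.RHomR A ω).obj ω'
  haveI := isLE_RHomR ω ω' a a' b' hab'
  haveI := isGE_RHomR ω ω' b a'
  have hfin := finite_hd_RHom_of_finite_hd hω.finite_cohomology hω'.finite_cohomology
    (finiteInjDim_of_isDualizing hω')
  let B := Localization.AtPrime p
  haveI : Module.Flat A B := IsLocalization.flat B p.primeCompl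
  haveI := hasLBase (algebraMap A B)
  obtain ⟨i₀, ⟨e⟩, h0⟩ := PerfGen7.exists_unique_degree_localized hω hω' p
  have hH : ∀ i, Nonempty (Dual.HD B ((DTen.LBase (algebraMap A B)).obj Q) i ≃ₗ[B] B ⊗[A] (ω ⟶ ω'⟦i⟧)) :=
    fun i => by
      obtain ⟨c⟩ := exists_hdLBaseLEquiv (B := B) Q i
      obtain ⟨d⟩ := exists_hdRHomShiftLEquiv ω ω' i
      exact ⟨c.trans (TensorProduct.AlgebraTensorModule.congr (LinearEquiv.refl B B) d)⟩
  obtain ⟨g⟩ := hH i₀
  obtain ⟨f, hf, hiso⟩ := PerfGen7.RankOne.exists_away Q (a' - b) (b' - a) hfin p (m := -i₀)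
    (PerfGen7.RankOne.iso_of_hd _ (-i₀) (fun i hi => by
      obtain ⟨c⟩ := hH i
      haveI := h0 i (by omega)
      exact c.toEquiv.subsingleton)
      (by rw [neg_neg]; exact g.trans e))
  exact ⟨f, hf, -i₀, fun {_} => hiso⟩

variable {X : Scheme.{u}} [IsLocallyNoetherian X]
  [∀ (U V : Scheme.{u}) (j : U ⟶ V) [IsOpenImmersion j], PreservesFiniteLimits (Scheme.Modules.restrictFunctor j)]
  [∀ (R : CommRingCat.{u}), PreservesFiniteLimits (tilde.functor R)]
  {K K' : DCoh.D X} (hK : Dual2.IsDualizingSch X K) (hK' : Dual2.IsDualizingSch X K')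

include hK in
/-- A dualizing complex is pseudo-coherent. -/
theorem isPseudoCoherentD_of_isDualizing (m : ℤ) : DCoh.IsPseudoCoherentD m K :=
  (isPseudoCoherentD_iff _ _).2 (LocPC.of_local fun x => by
    obtain ⟨S, hS, j, hj, ω, hx, hω, ⟨e⟩⟩ := DualizingModel.exists_chart_dualizing hK x
    haveI := hS
    haveI : IsLocallyNoetherian (Spec S) := isLocallyNoetherian_of_isOpenImmersion j
    obtain ⟨J', a, b, -, -, hb, ⟨eω⟩⟩ := DualizingModel.exists_model hω
    haveI := hb
    haveI : (DerivedCategory.Q.obj J').IsLE b := (DerivedCategory.isLE_Q_obj_iff J' b).2 inferInstance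
    have hc := DualizingModel.isCohD_tilde (R := S) hω.finite_cohomology
    refine ⟨_, j, hj, hx, LocPC.of_iso e.symm (locPC_of_coh (isCohD_isQCohD hc) (fun i _ => hc i) b
      fun i hi => ((DerivedCategory.Q.obj J').isZero_of_isLE b i hi).of_iso
        ((DerivedCategory.homologyFunctor _ i).mapIso eω))⟩)

include hK in
/-- A K-injective model of a dualizing complex is bounded below on all small opens. -/
theorem exists_lowerBound (J : CochainComplex X.Modules ℤ)
    (eJ : K ≅ DerivedCategory.Q.obj J) (x : X) :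
    ∃ (V : X.Opens) (a : ℤ), x ∈ V ∧ ∀ (U : Scheme.{u}) (j : U ⟶ X) [IsOpenImmersion j],
      Set.range j.base ⊆ (V : Set X) → ∀ q, q < a → IsZero (((rCx j).obj J).homology q) := by
  obtain ⟨S, hS, j, hj, ω, hx, hω, ⟨e⟩⟩ := DualizingModel.exists_chart_dualizing hK x
  haveI := hS
  obtain ⟨J', a, b, -, ha, -, ⟨eω⟩⟩ := DualizingModel.exists_model hω
  refine ⟨j.opensRange, a, hx, fun U j' _ hU q hq => ?_⟩
  let g : U ⟶ Spec S := IsOpenImmersion.lift j j' hU
  have hg : g ≫ j = j' := IsOpenImmersion.lift_fac j j' hU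
  haveI : IsOpenImmersion g := by
    haveI : IsOpenImmersion (g ≫ j) := hg.symm ▸ inferInstance
    exact IsOpenImmersion.of_comp g j
  haveI := ha
  haveI : ((rCx g).obj J').IsStrictlyGE a := by
    rw [CochainComplex.isStrictlyGE_iff]
    exact fun n hn => Functor.map_isZero (Scheme.Modules.restrictFunctor g) (J'.isZero_of_isStrictlyGE a n hn)
  haveI : (DerivedCategory.Q.obj ((rCx g).obj J')).IsGE a :=
    (DerivedCategory.isGE_Q_obj_iff _ a).2 inferInstance
  exact ((DerivedCategory.Q.obj ((rCx g).obj J')).isZero_of_isGE a q hq).of_iso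
    (((DerivedCategory.homologyFunctorFactors _ q).app _).symm ≪≫ (DerivedCategory.homologyFunctor _ q).mapIso
      (((rhoQ j').app J).symm ≪≫ (rho j').mapIso eJ.symm ≪≫ (rhoComp g j j' hg _).symm ≪≫
        (rho g).mapIso (e ≪≫ eω) ≪≫ (rhoQ g).app J'))

include hK hK' in
/-- Dualizing complexes differ by an invertible object. -/
theorem exists_invertible_twist : ∃ (E : CochainComplex X.Modules ℤ) (_ : DCoh.HasLTensorCx E),
    Dual3.IsInvertibleD (DCoh.toD X E) ∧ Nonempty (K' ≅ (DCoh.LTensorCx E).obj K) := by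
  obtain ⟨J, hJ, hJi, ⟨eJ⟩⟩ := exists_kInjective_rep K
  obtain ⟨J₁, hJ₁, hJ₁i, ⟨eJ₁⟩⟩ := exists_kInjective_rep K'
  let H := (iHom J).obj J₁
  let E := (kRes X).obj H
  let a₀ : E ⟶ H := (flatCover X).ψ.app _
  haveI ha₀ : QuasiIso a₀ := (flatCover X).quasiIso_ψ _
  haveI := isIso_Q_map a₀ ha₀
  haveI := hasLTensorCx E
  refine ⟨E, inferInstance, fun x => ?_, ?_⟩
  · obtain ⟨S, hS, j, hj, ω, hx, hω, ⟨e⟩⟩ := DualizingModel.exists_chart_dualizing hK x
    haveI := hS
    obtain ⟨ω', hω', ⟨e'⟩⟩ := hK' S j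
    obtain ⟨p, rfl⟩ := hx
    let rJ := (rCx j).obj J
    let rJ₁ := (rCx j).obj J₁
    haveI : rJ₁.IsKInjective := isKInjective_rCx j J₁
    haveI : ∀ n, Injective (rJ₁.X n) := injective_rCx j J₁
    haveI := hasLTensorCx rJ
    haveI := PerfGen7.hasRSheafHom rJ
    haveI : DTen.HasLTen S := hasLTen S
    haveI : DTen.HasRHom S := hasRHom
    obtain ⟨e₀⟩ := nonempty_iHomRestrictIso j J
    obtain ⟨e₁⟩ := nonempty_RSheafHom_iso rJ rJ₁
    let K₀ := DerivedCategory.Q.objPreimage ω
    let eK₀ : DRing.toD K₀ ≅ ω := DerivedCategory.Q.objObjPreimageIso ω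
    let eJω : DerivedCategory.Q.obj rJ ≅ (tD S).obj (DRing.toD K₀) :=
      ((rhoQ j).app J).symm ≪≫ (rho j).mapIso eJ.symm ≪≫ e ≪≫ (tD S).mapIso eK₀.symm
    obtain ⟨φ⟩ := nonempty_RSheafHom_iso_of_isQCohD K₀ ω' rJ ⟨eJω⟩ (isQCohD_RSheafHom_tilde K₀
      (fun i => by
        haveI := hω.finite_cohomology i
        exact Module.Finite.equiv ((DerivedCategory.homologyFunctor _ i).mapIso eK₀.symm).toLinearEquiv)
      ω' (finiteInjDim_of_isDualizing hω') rJ ⟨eJω⟩)
    let eE : (rho j).obj (DCoh.toD X E) ≅ (tD S).obj ((DTen.RHomR S ω).obj ω') :=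
      (rho j).mapIso (asIso (DerivedCategory.Q.map a₀)) ≪≫ (rhoQ j).app H ≪≫
        DerivedCategory.Q.mapIso (e₀.app J₁) ≪≫ e₁.symm ≪≫
        (DCoh.RSheafHom rJ).mapIso (((rhoQ j).app J₁).symm ≪≫ (rho j).mapIso eJ₁.symm ≪≫ e') ≪≫
        φ ≪≫ (tD S).mapIso (((DTen.RHom S).mapIso eK₀.symm.op).app ω')
    obtain ⟨f, hf, m, hm⟩ := exists_away_RHom hω hω' p.asIdeal
    let ψ := algebraMap S (Localization.Away f)
    haveI := hasLBase ψ
    haveI : DRing.HasLBaseChange ψ := H9Misc.DRingLBase.hasLBaseChange ψ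
    obtain ⟨eL⟩ := nonempty_LBaseChange_iso ψ
    obtain ⟨i⟩ := hm
    haveI : IsOpenImmersion (Spec.map (CommRingCat.ofHom ψ)) := IsOpenImmersion.of_isLocalization f
    obtain ⟨t⟩ := DualCover7.nonempty_tilde_rho ψ ((DTen.RHomR S ω).obj ω')
    let g : Spec (CommRingCat.of (Localization.Away f)) ⟶ X := Spec.map (CommRingCat.ofHom ψ) ≫ j
    let U : X.Opens := g.opensRange
    let k : (U : Scheme.{u}) ⟶ Spec (CommRingCat.of (Localization.Away f)) := g.isoOpensRange.inv
    have hk : k ≫ g = U.ι := g.isoOpensRange_inv_comp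
    refine ⟨U, m, ?_, ⟨?_⟩⟩
    · have hm' : p ∈ Set.range (Spec.map (CommRingCat.ofHom ψ)).base := by
        show p ∈ Set.range (PrimeSpectrum.comap ψ)
        rw [PrimeSpectrum.localization_away_comap_range (Localization.Away f) f]
        exact hf
      obtain ⟨q, hq⟩ := hm'
      exact ⟨q, by show j.base ((Spec.map (CommRingCat.ofHom ψ)).base q) = j.base p; rw [hq]⟩
    · let B := CommRingCat.of (Localization.Away f)
      haveI : (tilde.functor B).Additive := tilde_additive B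
      haveI : PreservesFiniteColimits (tilde.functor B) := QCoh.tilde_preservesFiniteColimits
      let eO : (tD B).obj (DTen.unit (Localization.Away f)) ≅ DCoh.inD (Spec B) (Coh.structureModule (Spec B)) :=
        (tD B).mapIso ((DerivedCategory.singleFunctorIsoCompQ (ModuleCat.{u} B) 0).app (ModuleCat.of B B)).symm ≪≫
          ((tilde.functor B).mapDerivedCategorySingleFunctor 0).app (ModuleCat.of B B) ≪≫
          (DerivedCategory.singleFunctor (Spec B).Modules 0).mapIso (tildeSelf (R := B))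
      let α : (rho g).obj (DCoh.toD X E) ≅ (DCoh.inD (Spec B) (Coh.structureModule (Spec B)))⟦m⟧ :=
        (rhoComp (Spec.map (CommRingCat.ofHom ψ)) j g rfl _).symm ≪≫ (rho _).mapIso eE ≪≫ t.symm ≪≫
          (tD B).mapIso (eL.app _ ≪≫ i) ≪≫ ((tD B).commShiftIso m).app _ ≪≫ (shiftFunctor _ m).mapIso eO
      exact (rhoComp k g U.ι hk _).symm ≪≫ (rho k).mapIso α ≪≫ ((rho k).commShiftIso m).app _ ≪≫
        (shiftFunctor _ m).mapIso (((Scheme.Modules.restrictFunctor k).mapDerivedCategorySingleFunctor 0).app _ ≪≫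
          (DerivedCategory.singleFunctor _ 0).mapIso (restrictStructureIso k))
  · haveI := hasLTensorCx J
    let c := ((iHomAdj J).homEquiv E J₁).symm a₀
    have hc : QuasiIso ((iHomAdj J).homEquiv E J₁ c) := by
      rw [show (iHomAdj J).homEquiv E J₁ c = a₀ from Equiv.apply_symm_apply _ a₀]
      exact ha₀
    have hamp : ∀ x : X, ∃ (V : X.Opens) (a b a' b' r : ℤ), x ∈ V ∧ AmpOn V E J J₁ a b a' b' r := fun x => by
      obtain ⟨V, a, b, hx, hV⟩ := DualizingModel.exists_locInj hK J eJ x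
      obtain ⟨V', a', b', hx', hV'⟩ := DualizingModel.exists_locInj hK' J₁ eJ₁ x
      obtain ⟨V'', a'', hx'', hV''⟩ := exists_lowerBound hK J eJ x
      refine ⟨V ⊓ V' ⊓ V'', a, b, a', b', b' - a'', ⟨⟨hx, hx'⟩, hx''⟩,
        ⟨fun U j _ hU => hV U j (hU.trans fun y hy => hy.1.1),
         fun U j _ hU => hV' U j (hU.trans fun y hy => hy.1.2), fun U j _ hU q hq => ?_⟩⟩
      haveI : QuasiIso ((rCx j).map a₀) := inferInstance
      exact ((hV' U j (hU.trans fun y hy => hy.1.2)).high J (a'' - 1)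
        (fun k hk => hV'' U j (hU.trans fun y hy => hy.2) k (by omega)) q (by omega)).of_iso
        (asIso (HomologicalComplex.homologyMap ((rCx j).map a₀) q))
    have hpc : ∀ m, DCoh.IsPseudoCoherentD m (DCoh.toD X J) := fun m =>
      (isPseudoCoherentD_iff _ _).2
        (LocPC.of_iso eJ ((isPseudoCoherentD_iff _ _).1 (isPseudoCoherentD_of_isDualizing hK m)))
    haveI := isIso_Q_map _ (quasiIso_coevalMap_of_pc E J J₁ c (isKFlat_kRes _) (isFlat_kRes _) hc J hpc hamp)
    obtain ⟨eu⟩ := nonempty_iHom_iso_of_iso (haveI := isIso_Q_map _ (Biduality.quasiIso_ζ J hK eJ); asIso (DerivedCategory.Q.map (Biduality.ζ J))) J₁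
    obtain ⟨eU⟩ := nonempty_iHomUnitIso (X := X) 0
    haveI := isKFlat_kRes H
    let eTen : (DCoh.LTensorCx E).obj K ≅ DerivedCategory.Q.obj ((DCoh.tensorCx.obj E).obj J) :=
      (DCoh.LTensorCx E).mapIso eJ ≪≫
        (haveI := isIso_LTensorCx_counit_of_isKFlat_right E (isKFlat_kRes H) J
         asIso (((DCoh.tensorCxQ E).totalLeftDerivedCounit DerivedCategory.Q (qisX X)).app J)) ≪≫
        DerivedCategory.Q.mapIso (braidCx J E)
    exact ⟨eJ₁ ≪≫ DerivedCategory.Q.mapIso (eU.app J₁ ≪≫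
        (shiftFunctorZero (CochainComplex X.Modules ℤ) ℤ).app J₁).symm ≪≫ eu ≪≫
      (asIso (DerivedCategory.Q.map (coevalMap E J J₁ c J))).symm ≪≫ eTen.symm⟩

end Groth.Agent.RHomO7.Unique
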